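import Groth.Prelude.Def_CohB1
import Groth.Prelude.Def_Pic
import Mathlib.AlgebraicGeometry.QuasiAffine

set_option autoImplicit false
universe u
open CategoryTheory AlgebraicGeometry TopologicalSpace Opposite

namespace Groth.Agent.Smoothlim.LineSec

noncomputable section

variable {X : Scheme.{u}} {M N : X.Modules}

/-- restriction of a section of a module -/
abbrev res {U V : X.Opens} (h : V ≤ U) (m : Γ(M, U)) : Γ(M, V) := M.presheaf.map (homOfLE h).op m

/-- restriction of a function -/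
abbrev resO {U V : X.Opens} (h : V ≤ U) (a : Γ(X, U)) : Γ(X, V) := X.presheaf.map (homOfLE h).op a

lemma res_smul {U V : X.Opens} (h : V ≤ U) (a : Γ(X, U)) (m : Γ(M, U)) :
    res h (a • m) = resO h a • res h m := M.map_smul _ _ _

lemma res_zero {U V : X.Opens} (h : V ≤ U) : res h (0 : Γ(M, U)) = 0 := map_zero _

lemma res_add {U V : X.Opens} (h : V ≤ U) (a b : Γ(M, U)) : res h (a + b) = res h a + res h b :=
  map_add _ _ _

lemma res_sub {U V : X.Opens} (h : V ≤ U) (a b : Γ(M, U)) : res h (a - b) = res h a - res h b :=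
  map_sub _ _ _

lemma resO_mul {U V : X.Opens} (h : V ≤ U) (a b : Γ(X, U)) :
    resO h (a * b) = resO h a * resO h b := map_mul _ _ _

lemma resO_pow {U V : X.Opens} (h : V ≤ U) (a : Γ(X, U)) (n : ℕ) :
    resO h (a ^ n) = resO h a ^ n := map_pow _ _ _

lemma resO_one {U V : X.Opens} (h : V ≤ U) : resO h (1 : Γ(X, U)) = 1 := map_one _

lemma resO_zero {U V : X.Opens} (h : V ≤ U) : resO h (0 : Γ(X, U)) = 0 := map_zero _

lemma resO_add {U V : X.Opens} (h : V ≤ U) (a b : Γ(X, U)) :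
    resO h (a + b) = resO h a + resO h b := map_add _ _ _

lemma res_res {U V W : X.Opens} (h : V ≤ U) (h' : W ≤ V) (m : Γ(M, U)) :
    res h' (res h m) = res (h'.trans h) m := by
  simp only [res]
  rw [← M.presheaf.map_comp_apply]
  rfl

lemma resO_resO {U V W : X.Opens} (h : V ≤ U) (h' : W ≤ V) (m : Γ(X, U)) :
    resO h' (resO h m) = resO (h'.trans h) m := by
  simp only [resO]
  rw [← X.presheaf.map_comp_apply]
  rfl

lemma res_self {U : X.Opens} (m : Γ(M, U)) : res le_rfl m = m := by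
  simp [res]

lemma resO_self {U : X.Opens} (m : Γ(X, U)) : resO le_rfl m = m := by
  simp [resO]

lemma sep {U : X.Opens} {ι : Type*} (W : ι → X.Opens) (hW : ∀ i, W i ≤ U) (hc : U ≤ ⨆ i, W i)
    {s t : Γ(M, U)} (h : ∀ i, res (hW i) s = res (hW i) t) : s = t :=
  TopCat.Sheaf.eq_of_locally_eq' ⟨_, M.isSheaf⟩ W U (fun i => homOfLE (hW i)) hc s t h

lemma sepO {U : X.Opens} {ι : Type*} (W : ι → X.Opens) (hW : ∀ i, W i ≤ U) (hc : U ≤ ⨆ i, W i)
    {s t : Γ(X, U)} (h : ∀ i, resO (hW i) s = resO (hW i) t) : s = t :=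
  TopCat.Sheaf.eq_of_locally_eq' X.sheaf W U (fun i => homOfLE (hW i)) hc s t h

lemma glue {U : X.Opens} {ι : Type*} (W : ι → X.Opens) (hW : ∀ i, W i ≤ U) (hc : U ≤ ⨆ i, W i)
    (s : ∀ i, Γ(M, W i)) (h : ∀ i j, res (inf_le_left : W i ⊓ W j ≤ W i) (s i) =
      res (inf_le_right : W i ⊓ W j ≤ W j) (s j)) : ∃ t : Γ(M, U), ∀ i, res (hW i) t = s i := by
  obtain ⟨t, ht, -⟩ := TopCat.Sheaf.existsUnique_gluing' ⟨_, M.isSheaf⟩ W U
    (fun i => homOfLE (hW i)) hc s h
  exact ⟨t, ht⟩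

lemma glueO {U : X.Opens} {ι : Type*} (W : ι → X.Opens) (hW : ∀ i, W i ≤ U) (hc : U ≤ ⨆ i, W i)
    (s : ∀ i, Γ(X, W i)) (h : ∀ i j, resO (inf_le_left : W i ⊓ W j ≤ W i) (s i) =
      resO (inf_le_right : W i ⊓ W j ≤ W j) (s j)) : ∃ t : Γ(X, U), ∀ i, resO (hW i) t = s i := by
  obtain ⟨t, ht, -⟩ := TopCat.Sheaf.existsUnique_gluing' X.sheaf W U
    (fun i => homOfLE (hW i)) hc s h
  exact ⟨t, ht⟩

/-- `e` generates `M` freely on `U` -/
def IsGen {U : X.Opens} (e : Γ(M, U)) : Prop :=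
  ∀ (V : X.Opens) (h : V ≤ U), Function.Bijective (fun a : Γ(X, V) => a • res h e)

lemma IsGen.res {U V : X.Opens} {e : Γ(M, U)} (he : IsGen e) (h : V ≤ U) : IsGen (res h e) := by
  intro W h'
  have := he W (h'.trans h)
  simpa only [res_res] using this

/-- the section attached to a map from the structure sheaf -/
def ofHom (s : Coh.structureModule X ⟶ M) : Γ(M, ⊤) := s.app ⊤ (1 : Γ(X, ⊤))

lemma app_res (s : M ⟶ N) {U V : X.Opens} (h : V ≤ U) (m : Γ(M, U)) :
    s.app V (res h m) = res h (s.app U m) := by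
  have := s.mapPresheaf.naturality (homOfLE h).op
  exact congr($this m)

lemma app_eq (s : Coh.structureModule X ⟶ M) (U : X.Opens) (a : Γ(X, U)) :
    s.app U a = a • res le_top (ofHom s) := by
  have h1 : s.app U a = s.app U (a • (res (M := Coh.structureModule X) le_top
      (1 : Γ(X, ⊤)) : Γ(Coh.structureModule X, U))) := by
    congr 1
    change a = a * X.presheaf.map _ 1
    rw [map_one]
    exact (mul_one (M := Γ(X, U)) a).symm
  rw [h1, Scheme.Modules.Hom.app_smul, app_res]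
  rfl

/-- the map from the structure sheaf attached to a global section -/
def toHom (t : Γ(M, ⊤)) : Coh.structureModule X ⟶ M :=
  (SheafOfModules.unitHomEquiv (R := X.ringCatSheaf) M).symm
    (PresheafOfModules.sectionsMk (fun U => res (M := M) (U := ⊤) (V := U.unop) le_top t)
      (fun U V f => res_res (M := M) (U := ⊤) (V := U.unop) (W := V.unop) le_top f.unop.le t))

lemma toHom_app (t : Γ(M, ⊤)) (U : X.Opens) (a : Γ(X, U)) :
    (toHom t).app U a = a • res le_top t := rfl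

lemma ofHom_toHom (t : Γ(M, ⊤)) : ofHom (toHom t) = t := by
  simp only [ofHom]
  rw [toHom_app, one_smul, res_self]

lemma toHom_ofHom (s : Coh.structureModule X ⟶ M) : toHom (ofHom s) = s := by
  apply Scheme.Modules.hom_ext
  intro U
  ext a
  exact (app_eq s U a).symm

/-- `(restrict s)` is an isomorphism iff the section generates. -/
lemma isIso_restrict_iff (s : Coh.structureModule X ⟶ M) (U : X.Opens) :
    IsIso ((Scheme.Modules.restrictFunctor U.ι).map s) ↔ IsGen (res (le_top : U ≤ ⊤) (ofHom s)) := by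
  rw [Scheme.Modules.Hom.isIso_iff_isIso_app]
  have key : ∀ V : X.Opens, IsIso (s.app V) ↔
      Function.Bijective (fun a : Γ(X, V) => a • res (le_top : V ≤ ⊤) (ofHom s)) := by
    intro V
    rw [ConcreteCategory.isIso_iff_bijective]
    have : ⇑(ConcreteCategory.hom (s.app V)) =
      (fun a : Γ(X, V) => a • res (le_top : V ≤ ⊤) (ofHom s)) := funext fun a => app_eq s V a
    rw [this]
    exact Iff.rfl
  constructor
  · intro H V hV
    rw [res_res, ← key V]
    have h1 := H (U.ι ⁻¹ᵁ V)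
    have h2 : U.ι ''ᵁ (U.ι ⁻¹ᵁ V) = V := by
      rw [Scheme.Hom.image_preimage_eq_opensRange_inf]
      simpa using hV
    change IsIso (s.app (U.ι ''ᵁ (U.ι ⁻¹ᵁ V))) at h1
    rwa [h2] at h1
  · intro H V
    change IsIso (s.app (U.ι ''ᵁ V))
    rw [key]
    have := H (U.ι ''ᵁ V) (U.ι_image_le V)
    rwa [res_res] at this

/-- being a generator is local -/
lemma IsGen.of_cover {U : X.Opens} {ι : Type*} (W : ι → X.Opens) (hW : ∀ i, W i ≤ U)
    (hc : U ≤ ⨆ i, W i) {e : Γ(M, U)} (h : ∀ i, IsGen (LineSec.res (hW i) e)) : IsGen e := by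
  intro V hV
  have hcV : V ≤ ⨆ i, (V ⊓ W i) := by
    rw [← inf_iSup_eq]
    exact le_inf le_rfl (hV.trans hc)
  constructor
  · intro a b hab
    refine sepO (fun i => V ⊓ W i) (fun i => inf_le_left) hcV fun i => ?_
    apply (h i (V ⊓ W i) inf_le_right).1
    have := congr(LineSec.res (inf_le_left : V ⊓ W i ≤ V) $hab)
    simp only [res_smul, res_res] at this ⊢
    exact this
  · intro m
    have h1 : ∀ i, ∃ a : Γ(X, V ⊓ W i), a • LineSec.res (inf_le_left.trans hV : V ⊓ W i ≤ U) e =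
        LineSec.res (inf_le_left : V ⊓ W i ≤ V) m := by
      intro i
      obtain ⟨a, ha⟩ := (h i (V ⊓ W i) inf_le_right).2 (LineSec.res inf_le_left m)
      refine ⟨a, ?_⟩
      simp only [res_res] at ha
      exact ha
    choose a ha using h1
    obtain ⟨b, hb⟩ := glueO (fun i => V ⊓ W i) (fun i => inf_le_left) hcV a (by
      intro i j
      have hle : (V ⊓ W i) ⊓ (V ⊓ W j) ≤ W i := inf_le_left.trans inf_le_right
      apply (h i _ hle).1
      have h1 := congr(LineSec.res (inf_le_left : (V ⊓ W i) ⊓ (V ⊓ W j) ≤ _) $(ha i))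
      have h2 := congr(LineSec.res (inf_le_right : (V ⊓ W i) ⊓ (V ⊓ W j) ≤ _) $(ha j))
      simp only [res_smul, res_res] at h1 h2 ⊢
      exact h1.trans h2.symm)
    refine ⟨b, ?_⟩
    refine sep (fun i => V ⊓ W i) (fun i => inf_le_left) hcV fun i => ?_
    simp only [res_smul, res_res]
    rw [hb, ha]

/-- The generating locus of a global section. -/
def genOpen (t : Γ(M, ⊤)) : X.Opens := sSup {U : X.Opens | IsGen (LineSec.res (le_top : U ≤ ⊤) t)}

lemma genLocus_eq (s : Coh.structureModule X ⟶ M) : CohB1.genLocus M s = genOpen (ofHom s) := by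
  unfold CohB1.genLocus genOpen
  congr 1
  ext U
  exact isIso_restrict_iff s U

lemma isGen_genOpen (t : Γ(M, ⊤)) : IsGen (LineSec.res (le_top : genOpen t ≤ ⊤) t) := by
  refine IsGen.of_cover (U := genOpen t)
    (ι := {U : X.Opens // IsGen (LineSec.res (le_top : U ≤ ⊤) t)})
    (fun U => U.1) (fun U => le_sSup U.2) ?_ ?_
  · unfold genOpen
    rw [sSup_eq_iSup']
    exact le_rfl
  · intro U
    rw [res_res]
    exact U.2

lemma le_genOpen_iff (t : Γ(M, ⊤)) (U : X.Opens) :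
    U ≤ genOpen t ↔ IsGen (LineSec.res (le_top : U ≤ ⊤) t) := by
  constructor
  · intro h
    have := (isGen_genOpen t).res h
    rwa [res_res] at this
  · intro h
    exact le_sSup h

lemma IsGen.smul_iff {U : X.Opens} {e : Γ(M, U)} (he : IsGen e) (a : Γ(X, U)) :
    IsGen (a • e) ↔ IsUnit a := by
  constructor
  · intro h
    obtain ⟨b, hb⟩ := (h U le_rfl).2 e
    simp only [res_self] at hb
    rw [← mul_smul] at hb
    have h1 := (he U le_rfl).1 (a₁ := b * a) (a₂ := 1) (by simp only [res_self, one_smul]; exact hb)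
    exact IsUnit.of_mul_eq_one_right b h1
  · intro h V hV
    have hu : IsUnit (resO hV a) := h.map (X.presheaf.map (homOfLE hV).op).hom
    have h1 : (fun c : Γ(X, V) => c • LineSec.res hV (a • e)) =
        (fun c : Γ(X, V) => c • LineSec.res hV e) ∘ (fun c => c * resO hV a) := by
      funext c
      simp only [Function.comp, res_smul, mul_smul]
    rw [h1]
    exact (he V hV).comp (IsUnit.isUnit_iff_mulRight_bijective.mp hu)

lemma genOpen_inf_eq {t : Γ(M, ⊤)} {U : X.Opens} {e : Γ(M, U)} (he : IsGen e) {a : Γ(X, U)}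
    (ha : LineSec.res (le_top : U ≤ ⊤) t = a • e) : genOpen t ⊓ U = X.basicOpen a := by
  apply le_antisymm
  · have h1 : IsGen (LineSec.res (le_top : genOpen t ⊓ U ≤ ⊤) t) :=
      (le_genOpen_iff t _).mp inf_le_left
    have h2 : LineSec.res (le_top : genOpen t ⊓ U ≤ ⊤) t =
        resO (inf_le_right : genOpen t ⊓ U ≤ U) a •
          LineSec.res (inf_le_right : genOpen t ⊓ U ≤ U) e := by
      rw [← res_smul, ← ha, res_res]
    rw [h2, (he.res inf_le_right).smul_iff] at h1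
    have h3 := X.basicOpen_of_isUnit h1
    simp only [resO] at h3
    rw [Scheme.basicOpen_res] at h3
    exact le_of_eq_of_le h3.symm inf_le_right
  · refine le_inf ?_ (X.basicOpen_le a)
    rw [le_genOpen_iff]
    have h2 : LineSec.res (le_top : X.basicOpen a ≤ ⊤) t =
        resO (X.basicOpen_le a) a • LineSec.res (X.basicOpen_le a) e := by
      rw [← res_smul, ← ha, res_res]
    rw [h2, (he.res (X.basicOpen_le a)).smul_iff]
    exact RingedSpace.isUnit_res_basicOpen X.toRingedSpace a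

/-- local generators of an invertible module -/
lemma exists_gen (hM : PicF.IsInvertible M) (y : X) : ∃ (U : X.Opens) (e : Γ(M, U)),
    y ∈ U ∧ IsGen e := by
  obtain ⟨U, hyU, ⟨i⟩⟩ := hM y
  let s : Coh.structureModule U ⟶ M.restrict U.ι := i.inv
  refine ⟨U.ι ''ᵁ ⊤, (s.app ⊤ (1 : Γ(U, ⊤)) : Γ(M.restrict U.ι, ⊤)), ?_, ?_⟩
  · simpa using hyU
  · intro V hV
    obtain ⟨V', rfl⟩ : ∃ V' : (U : Scheme.{u}).Opens, V = U.ι ''ᵁ V' := by
      refine ⟨U.ι ⁻¹ᵁ V, ?_⟩
      rw [Scheme.Hom.image_preimage_eq_opensRange_inf]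
      symm
      simpa using hV
    have h1 : IsIso (s.app V') := inferInstance
    rw [ConcreteCategory.isIso_iff_bijective] at h1
    have h2 : ⇑(ConcreteCategory.hom (s.app V')) =
      (fun a : Γ(X, U.ι ''ᵁ V') => a • LineSec.res (M := M) hV (s.app ⊤ (1 : Γ(U, ⊤)))) := by
      funext a
      rw [app_eq s V' a]
      have h3 : ∀ (b : Γ(U, V')) (x : Γ(M.restrict U.ι, V')), b • x =
        (show Γ(M, U.ι ''ᵁ V') from (show Γ(X, U.ι ''ᵁ V') from (U.ι.appIso V').inv b) •
          (show Γ(M, U.ι ''ᵁ V') from x)) := fun b x => rfl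
      rw [h3, Scheme.Opens.ι_appIso]
      rfl
    rw [h2] at h1
    exact h1

lemma exists_gen_affine (hM : PicF.IsInvertible M) {V : X.Opens} {x : X} (hx : x ∈ V) :
    ∃ (W : X.Opens) (e : Γ(M, W)), x ∈ W ∧ W ≤ V ∧ IsAffineOpen W ∧ IsGen e := by
  obtain ⟨U, e, hxU, he⟩ := exists_gen hM x
  obtain ⟨_, ⟨W, hW, rfl⟩, hxW, hWU⟩ := X.isBasis_affineOpens.exists_subset_of_mem_open
    (show x ∈ ((U ⊓ V : X.Opens) : Set X) from ⟨hxU, hx⟩) (U ⊓ V).isOpen
  replace hWU : W ≤ U ⊓ V := hWU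
  exact ⟨W, LineSec.res (hWU.trans inf_le_left) e, hxW, hWU.trans inf_le_right, hW, he.res _⟩

lemma exists_finite_gen_cover (hM : PicF.IsInvertible M) {V : X.Opens}
    (hV : IsCompact (V : Set X)) :
    ∃ (ι : Type u) (_ : Finite ι) (W : ι → X.Opens) (e : ∀ i, Γ(M, W i)), (∀ i, W i ≤ V) ∧
      (V ≤ ⨆ i, W i) ∧ (∀ i, IsAffineOpen (W i)) ∧ ∀ i, IsGen (e i) := by
  have h1 : ∀ x : V, ∃ (W : X.Opens) (e : Γ(M, W)), x.1 ∈ W ∧ W ≤ V ∧ IsAffineOpen W ∧ IsGen e :=
    fun x => exists_gen_affine hM x.2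
  choose W e hxW hWV hWa hWe using h1
  obtain ⟨t, ht⟩ := hV.elim_finite_subcover (fun x : V => (W x : Set X)) (fun x => (W x).isOpen)
    (fun x hx => Set.mem_iUnion.mpr ⟨⟨x, hx⟩, hxW ⟨x, hx⟩⟩)
  refine ⟨t, inferInstance, fun i => W i.1, fun i => e i.1, fun i => hWV _, ?_, fun i => hWa _,
    fun i => hWe _⟩
  intro x hx
  obtain ⟨y, hy⟩ := Set.mem_iUnion₂.mp (ht hx)
  exact Opens.mem_iSup.mpr ⟨⟨y, hy.1⟩, hy.2⟩

lemma isAffineOpen_genOpen_inf (hM : PicF.IsInvertible M) {W : X.Opens} (hW : IsAffineOpen W)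
    (t : Γ(M, ⊤)) : IsAffineOpen (genOpen t ⊓ W) := by
  let s : Set Γ(X, W) := {g | IsAffineOpen (genOpen t ⊓ X.basicOpen g)}
  have hs : Ideal.span s = ⊤ := by
    rw [← hW.iSup_basicOpen_eq_self_iff]
    refine le_antisymm (iSup_le fun g => X.basicOpen_le _) fun x hx => ?_
    obtain ⟨U, e, hxU, he⟩ := exists_gen hM x
    obtain ⟨g, hg, hxg⟩ := hW.exists_basicOpen_le ⟨x, hxU⟩ hx
    obtain ⟨a, ha⟩ := (he (X.basicOpen g) hg).2 (LineSec.res le_top t)
    refine Opens.mem_iSup.mpr ⟨⟨g, ?_⟩, hxg⟩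
    change IsAffineOpen _
    rw [genOpen_inf_eq (he.res hg) ha.symm]
    exact (hW.basicOpen g).basicOpen a
  refine isAffineOpen_of_isAffineOpen_basicOpen (genOpen t ⊓ W)
    (X.presheaf.map (homOfLE (inf_le_right : genOpen t ⊓ W ≤ W)).op '' s) ?_ ?_
  · have := Ideal.map_span (X.presheaf.map (homOfLE (inf_le_right : genOpen t ⊓ W ≤ W)).op).hom s
    rw [hs, Ideal.map_top] at this
    exact this.symm
  · rintro _ ⟨g, hg, rfl⟩
    rw [Scheme.basicOpen_res]
    have h1 : genOpen t ⊓ W ⊓ X.basicOpen g = genOpen t ⊓ X.basicOpen g := by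
      rw [inf_assoc, inf_eq_right.mpr (X.basicOpen_le g)]
    rw [h1]
    exact hg

lemma exists_pow_smul_eq_zero (hM : PicF.IsInvertible M) {V : X.Opens}
    (hV : IsCompact (V : Set X)) (f : Γ(X, V)) (t : Γ(M, V))
    (h : LineSec.res (X.basicOpen_le f) t = 0) : ∃ n : ℕ, f ^ n • t = 0 := by
  obtain ⟨ι, _, W, e, hWV, hc, hWa, he⟩ := exists_finite_gen_cover hM hV
  have h1 : ∀ i, ∃ n : ℕ, LineSec.res (hWV i) (f ^ n • t) = 0 := by
    intro i
    obtain ⟨a, ha⟩ := (he i (W i) le_rfl).2 (LineSec.res (hWV i) t)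
    simp only [res_self] at ha
    obtain ⟨n, hn⟩ := exists_pow_mul_eq_zero_of_res_basicOpen_eq_zero_of_isAffineOpen X (hWa i) a
      (resO (hWV i) f) (by
        have hle : X.basicOpen (resO (hWV i) f) ≤ W i := X.basicOpen_le _
        have hle' : X.basicOpen (resO (hWV i) f) ≤ X.basicOpen f := by
          simp only [resO]; rw [Scheme.basicOpen_res]; exact inf_le_right
        apply (he i _ hle).1
        have h2 := congr(LineSec.res hle $ha)
        rw [res_smul, res_res, ← res_res (X.basicOpen_le f) hle', h, res_zero] at h2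
        simp only [zero_smul]
        exact h2)
    refine ⟨n, ?_⟩
    rw [res_smul, ← ha, ← mul_smul]
    simp only [resO, map_pow] at hn ⊢
    rw [hn, zero_smul]
  choose n hn using h1
  obtain ⟨N, hN⟩ : ∃ N, ∀ i, n i ≤ N := by
    obtain ⟨N, hN⟩ := Set.finite_range n |>.bddAbove
    exact ⟨N, fun i => hN ⟨i, rfl⟩⟩
  refine ⟨N, sep W hWV hc fun i => ?_⟩
  obtain ⟨k, hk⟩ := Nat.exists_eq_add_of_le (hN i)
  rw [hk, add_comm, pow_add, mul_smul, res_smul, hn i, smul_zero, res_zero]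

lemma exists_extend (hM : PicF.IsInvertible M) {V : X.Opens}
    (hV : IsCompact (V : Set X)) (hV' : IsQuasiSeparated (V : Set X)) (f : Γ(X, V))
    (s : Γ(M, X.basicOpen f)) :
    ∃ (n : ℕ) (t : Γ(M, V)), LineSec.res (X.basicOpen_le f) t = resO (X.basicOpen_le f) f ^ n • s := by
  obtain ⟨ι, _, W, e, hWV, hc, hWa, he⟩ := exists_finite_gen_cover hM hV
  have hle : ∀ i, X.basicOpen (resO (hWV i) f) ≤ W i := fun i => X.basicOpen_le _
  have hle' : ∀ i, X.basicOpen (resO (hWV i) f) ≤ X.basicOpen f := fun i => by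
    simp only [resO]; rw [Scheme.basicOpen_res]; exact inf_le_right
  -- local extensions
  have h1 : ∀ i, ∃ (n : ℕ) (t : Γ(M, W i)), LineSec.res (hle i) t =
      resO ((hle i).trans (hWV i)) f ^ n • LineSec.res (hle' i) s := by
    intro i
    obtain ⟨a, ha⟩ := (he i _ (hle i)).2 (LineSec.res (hle' i) s)
    obtain ⟨n, b, hb⟩ := exists_eq_pow_mul_of_isAffineOpen X (W i) (hWa i) (resO (hWV i) f) a
    refine ⟨n, b • e i, ?_⟩
    rw [res_smul, ← ha]
    have hb' : resO (hle i) b = resO (hle i) (resO (hWV i) f) ^ n * a := hb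
    rw [hb', resO_resO, mul_smul]
  choose n t ht using h1
  obtain ⟨N, hN⟩ : ∃ N, ∀ i, n i ≤ N := by
    obtain ⟨N, hN⟩ := Set.finite_range n |>.bddAbove
    exact ⟨N, fun i => hN ⟨i, rfl⟩⟩
  -- uniform exponent
  obtain ⟨t', ht'⟩ : ∃ t' : ∀ i, Γ(M, W i), ∀ i, LineSec.res (hle i) (t' i) =
      resO ((hle i).trans (hWV i)) f ^ N • LineSec.res (hle' i) s := by
    refine ⟨fun i => resO (hWV i) f ^ (N - n i) • t i, fun i => ?_⟩
    rw [res_smul, ht i, resO_pow, resO_resO, ← mul_smul, ← pow_add, Nat.sub_add_cancel (hN i)]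
  -- differences are killed by a power
  have h2 : ∀ p : ι × ι, ∃ m : ℕ, resO ((inf_le_left : W p.1 ⊓ W p.2 ≤ W p.1).trans (hWV p.1)) f ^ m •
      (LineSec.res (inf_le_left : W p.1 ⊓ W p.2 ≤ W p.1) (t' p.1) -
        LineSec.res (inf_le_right : W p.1 ⊓ W p.2 ≤ W p.2) (t' p.2)) = 0 := by
    rintro ⟨i, j⟩
    dsimp only
    have hcomp : IsCompact ((W i ⊓ W j : X.Opens) : Set X) :=
      hV' _ _ (hWV i) (W i).isOpen (hWa i).isCompact (hWV j) (W j).isOpen (hWa j).isCompact
    apply exists_pow_smul_eq_zero hM hcomp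
    rw [res_sub, res_res, res_res, sub_eq_zero]
    have hl1 : X.basicOpen (resO ((inf_le_left : W i ⊓ W j ≤ W i).trans (hWV i)) f) ≤
        X.basicOpen (resO (hWV i) f) := by
      simp only [resO]; rw [Scheme.basicOpen_res, Scheme.basicOpen_res]
      exact inf_le_inf_right _ inf_le_left
    have hl2 : X.basicOpen (resO ((inf_le_left : W i ⊓ W j ≤ W i).trans (hWV i)) f) ≤
        X.basicOpen (resO (hWV j) f) := by
      simp only [resO]; rw [Scheme.basicOpen_res, Scheme.basicOpen_res]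
      exact inf_le_inf_right _ inf_le_right
    have e1 := congr(LineSec.res hl1 $(ht' i))
    have e2 := congr(LineSec.res hl2 $(ht' j))
    rw [res_smul, res_res, res_res, resO_pow, resO_resO] at e1 e2
    exact e1.trans e2.symm
  choose m hm using h2
  obtain ⟨K, hK⟩ : ∃ K, ∀ p, m p ≤ K := by
    obtain ⟨N, hN⟩ := Set.finite_range m |>.bddAbove
    exact ⟨N, fun i => hN ⟨i, rfl⟩⟩
  obtain ⟨T, hT⟩ := glue W hWV hc (fun i => resO (hWV i) f ^ K • t' i) (by
    intro i j
    rw [← sub_eq_zero]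
    rw [res_smul, res_smul, resO_pow, resO_pow, resO_resO, resO_resO, ← smul_sub]
    obtain ⟨k, hk⟩ := Nat.exists_eq_add_of_le (hK (i, j))
    rw [hk, add_comm, pow_add, mul_smul, hm (i, j), smul_zero])
  refine ⟨K + N, T, ?_⟩
  refine sep (fun i => X.basicOpen (resO (hWV i) f)) hle' ?_ fun i => ?_
  · intro x hx
    obtain ⟨i, hi⟩ := Opens.mem_iSup.mp (hc (X.basicOpen_le f hx))
    refine Opens.mem_iSup.mpr ⟨i, ?_⟩
    simp only [resO]; rw [Scheme.basicOpen_res]
    exact ⟨hi, hx⟩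
  · rw [res_res, res_smul, resO_pow, resO_resO, ← res_res (hWV i) (hle i), hT i, res_smul, ht' i,
      resO_pow, resO_resO, ← mul_smul, ← pow_add]

/-- `m` generates near `x` -/
def GenAt {W : X.Opens} (m : Γ(M, W)) (x : X) : Prop :=
  ∃ (U : X.Opens) (h : U ≤ W), x ∈ U ∧ IsGen (LineSec.res h m)

lemma genAt_iff {W U : X.Opens} (h : U ≤ W) {e : Γ(M, U)} (he : IsGen e) {m : Γ(M, W)}
    {a : Γ(X, U)} (ha : LineSec.res h m = a • e) {x : X} (hx : x ∈ U) :
    GenAt m x ↔ x ∈ X.basicOpen a := by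
  constructor
  · rintro ⟨V, hV, hxV, hVg⟩
    have h1 := hVg.res (inf_le_left : V ⊓ U ≤ V)
    rw [res_res, ← res_res h (inf_le_right : V ⊓ U ≤ U), ha, res_smul,
      (he.res inf_le_right).smul_iff] at h1
    have h3 := X.basicOpen_of_isUnit h1
    simp only [resO] at h3
    rw [Scheme.basicOpen_res] at h3
    have h4 : x ∈ V ⊓ U := ⟨hxV, hx⟩
    rw [← h3] at h4
    exact h4.2
  · intro hxa
    refine ⟨X.basicOpen a, (X.basicOpen_le a).trans h, hxa, ?_⟩
    rw [← res_res h (X.basicOpen_le a), ha, res_smul, (he.res _).smul_iff]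
    exact RingedSpace.isUnit_res_basicOpen X.toRingedSpace a

lemma GenAt.res_iff {W U : X.Opens} (h : U ≤ W) {m : Γ(M, W)} {x : X} (hx : x ∈ U) :
    GenAt (LineSec.res h m) x ↔ GenAt m x := by
  constructor
  · rintro ⟨V, hV, hxV, hVg⟩
    exact ⟨V, hV.trans h, hxV, by rwa [res_res] at hVg⟩
  · rintro ⟨V, hV, hxV, hVg⟩
    refine ⟨V ⊓ U, inf_le_right, ⟨hxV, hx⟩, ?_⟩
    rw [res_res]
    have := hVg.res (inf_le_left : V ⊓ U ≤ V)
    rwa [res_res] at this

lemma mem_genOpen_iff (t : Γ(M, ⊤)) (x : X) : x ∈ genOpen t ↔ GenAt t x := by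
  constructor
  · intro h
    exact ⟨_, le_top, h, isGen_genOpen t⟩
  · rintro ⟨U, hU, hx, hg⟩
    exact (le_genOpen_iff t U).mpr hg hx

lemma mem_basicOpen_res {U V : X.Opens} (h : V ≤ U) (a : Γ(X, U)) {x : X} (hx : x ∈ V) :
    x ∈ X.basicOpen (resO h a) ↔ x ∈ X.basicOpen a := by
  simp only [resO]
  rw [Scheme.basicOpen_res]
  exact ⟨fun h => h.2, fun h => ⟨hx, h⟩⟩

lemma exists_genAt (hM : PicF.IsInvertible M) {W : X.Opens} (hW : IsAffineOpen W) {x : X}
    (hx : x ∈ W) : ∃ m : Γ(M, W), GenAt m x := by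
  obtain ⟨U, e, hxU, hUW, -, he⟩ := exists_gen_affine hM hx
  obtain ⟨g, hg, hxg⟩ := hW.exists_basicOpen_le ⟨x, hxU⟩ hx
  obtain ⟨n, t, ht⟩ := exists_extend hM hW.isCompact hW.isQuasiSeparated g (LineSec.res hg e)
  refine ⟨t, X.basicOpen g, X.basicOpen_le g, hxg, ?_⟩
  rw [ht, (he.res hg).smul_iff]
  exact (RingedSpace.isUnit_res_basicOpen X.toRingedSpace g).pow n

lemma mem_basicOpen_add_mul {U : X.Opens} {x : X} (hx : x ∈ U) {a b c : Γ(X, U)}
    (h : (x ∈ X.basicOpen a ∧ x ∉ X.basicOpen b) ∨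
      (x ∉ X.basicOpen a ∧ x ∈ X.basicOpen b ∧ x ∈ X.basicOpen c)) :
    x ∈ X.basicOpen (a + b * c) := by
  simp only [Scheme.mem_basicOpen _ _ _ hx, map_add, map_mul] at h ⊢
  generalize X.presheaf.germ U x hx a = a at h ⊢
  generalize X.presheaf.germ U x hx b = b at h ⊢
  generalize X.presheaf.germ U x hx c = c at h ⊢
  by_contra hcon
  rcases h with ⟨h1, h2⟩ | ⟨h1, h2, h3⟩
  · have h4 : b * c ∈ nonunits (X.presheaf.stalk x) := by
      intro h
      exact h2 (isUnit_of_mul_isUnit_left h)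
    have h5 : -(b * c) ∈ nonunits (X.presheaf.stalk x) := by
      intro h
      exact h4 (by simpa using h.neg)
    have h6 := IsLocalRing.nonunits_add (show a + b * c ∈ nonunits _ from hcon) h5
    rw [add_neg_cancel_right] at h6
    exact h6 h1
  · have h5 : -a ∈ nonunits (X.presheaf.stalk x) := by
      intro h
      exact h1 (by simpa using h.neg)
    have h6 := IsLocalRing.nonunits_add h5 (show a + b * c ∈ nonunits _ from hcon)
    rw [neg_add_cancel_left] at h6
    exact h6 (h2.mul h3)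

/-- on an affine open, a section generating an invertible module at finitely many points -/
lemma exists_genAt_finite (hM : PicF.IsInvertible M) {W : X.Opens} (hW : IsAffineOpen W)
    (E : Set X) (hE : E.Finite) (hEW : ∀ x ∈ E, x ∈ W) :
    ∃ m : Γ(M, W), ∀ x ∈ E, GenAt m x := by
  classical
  lift E to Finset X using hE
  induction E using Finset.strongInduction with
  | H E ih =>
    rcases E.eq_empty_or_nonempty with rfl | hne
    · exact ⟨0, by simp⟩
    let _ := specializationOrder X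
    obtain ⟨x, hx⟩ := E.exists_maximal hne
    have hxE : x ∈ E := hx.1
    have hxmax : ∀ y ∈ E, y ⤳ x → y = x := by
      intro y hy hyx
      exact le_antisymm (hx.2 hy hyx) hyx
    obtain ⟨m, hm⟩ := ih (E.erase x) (Finset.erase_ssubset hxE)
      (fun y hy => hEW y (Finset.mem_coe.mpr (Finset.mem_of_mem_erase (Finset.mem_coe.mp hy))))
    by_cases hmx : GenAt m x
    · refine ⟨m, fun y hy => ?_⟩
      by_cases hyx : y = x
      · rwa [hyx]
      · exact hm y (Finset.mem_coe.mpr (Finset.mem_erase.mpr ⟨hyx, Finset.mem_coe.mp hy⟩))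
    obtain ⟨m', hm'⟩ := exists_genAt hM hW (hEW x (Finset.mem_coe.mpr hxE))
    -- a function vanishing on the other points but not at `x`
    have hcl : IsClosed (⋃ y ∈ E.erase x, closure ({y} : Set X)) :=
      (E.erase x).finite_toSet.isClosed_biUnion fun y _ => isClosed_closure
    let V : X.Opens := ⟨(⋃ y ∈ E.erase x, closure ({y} : Set X))ᶜ, hcl.isOpen_compl⟩
    have hxV : x ∈ V := by
      intro h
      obtain ⟨y, hy, hyx⟩ := Set.mem_iUnion₂.mp h
      have h1 : y ⤳ x := specializes_iff_mem_closure.mpr hyx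
      exact (Finset.mem_erase.mp hy).1 (hxmax y (Finset.mem_of_mem_erase hy) h1)
    obtain ⟨b, hb, hxb⟩ := hW.exists_basicOpen_le ⟨x, hxV⟩ (hEW x (Finset.mem_coe.mpr hxE))
    have hby : ∀ y ∈ E.erase x, y ∉ X.basicOpen b := by
      intro y hy hyb
      exact hb hyb (Set.mem_iUnion₂.mpr ⟨y, hy, subset_closure rfl⟩)
    refine ⟨m + b • m', fun y hy => ?_⟩
    have hyW := hEW y hy
    obtain ⟨U, e, hyU, hUW, -, he⟩ := exists_gen_affine hM hyW
    obtain ⟨a, ha⟩ := (he U le_rfl).2 (LineSec.res hUW m)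
    obtain ⟨a', ha'⟩ := (he U le_rfl).2 (LineSec.res hUW m')
    simp only [res_self] at ha ha'
    have hsum : LineSec.res hUW (m + b • m') = (a + resO hUW b * a') • e := by
      rw [res_add, res_smul, ← ha, ← ha', add_smul, mul_smul]
    rw [genAt_iff hUW he hsum hyU]
    apply mem_basicOpen_add_mul hyU
    rw [← genAt_iff hUW he ha.symm hyU, ← genAt_iff hUW he ha'.symm hyU,
      mem_basicOpen_res hUW b hyU]
    by_cases hyx : y = x
    · subst hyx
      exact Or.inr ⟨hmx, hxb, hm'⟩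
    · have hye : y ∈ E.erase x := Finset.mem_erase.mpr ⟨hyx, Finset.mem_coe.mp hy⟩
      exact Or.inl ⟨hm y (Finset.mem_coe.mpr hye), hby y hye⟩

lemma genAt_smul_iff (hM : PicF.IsInvertible M) {W : X.Opens} (b : Γ(X, W)) (m : Γ(M, W)) {x : X}
    (hx : x ∈ W) : GenAt (b • m) x ↔ x ∈ X.basicOpen b ∧ GenAt m x := by
  obtain ⟨U, e, hxU, hUW, -, he⟩ := exists_gen_affine hM hx
  obtain ⟨a, ha⟩ := (he U le_rfl).2 (LineSec.res hUW m)
  simp only [res_self] at ha
  have hb : LineSec.res hUW (b • m) = (resO hUW b * a) • e := by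
    rw [res_smul, ← ha, mul_smul]
  rw [genAt_iff hUW he hb hxU, genAt_iff hUW he ha.symm hxU, Scheme.basicOpen_mul,
    ← mem_basicOpen_res hUW b hxU]
  exact Iff.rfl

lemma genOpen_smul (hM : PicF.IsInvertible M) (b : Γ(X, ⊤)) (t : Γ(M, ⊤)) :
    genOpen (b • t) = genOpen t ⊓ X.basicOpen b := by
  ext x
  change x ∈ genOpen (b • t) ↔ x ∈ genOpen t ∧ x ∈ X.basicOpen b
  rw [mem_genOpen_iff, mem_genOpen_iff, genAt_smul_iff hM b t (Opens.mem_top x), and_comm]

end

end Groth.Agent.Smoothlim.LineSec
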