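import Groth.Agent.Smoothlim.ModKer
import Mathlib.Algebra.Category.ModuleCat.ChangeOfRings

/-! Pullback of tilde modules along `Spec.map φ`, and kernels of maps of localizing modules. -/

set_option autoImplicit false
universe u
open CategoryTheory AlgebraicGeometry Limits TopologicalSpace

namespace Groth.Agent.Smoothlim.TildePull

open Groth.Agent.Smoothlim.ModKer

section Pull

variable {R S : CommRingCat.{u}} (φ : R ⟶ S)

/-- global sections of the pushforward -/
noncomputable def pushΓIso :
    Scheme.Modules.pushforward (Spec.map φ) ⋙ moduleSpecΓFunctor (R := R) ≅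
      moduleSpecΓFunctor (R := S) ⋙ ModuleCat.restrictScalars φ.hom :=
  (Functor.associator _ _ _).symm ≪≫
    Functor.isoWhiskerRight (pushforwardCompModulesSpecToSheafIso φ)
      (TopCat.Sheaf.forget _ _ ⋙ (evaluation _ _).obj (.op ⊤))

/-- The pullback of `M^~` along `Spec.map φ` is `(S ⊗ M)^~`, naturally in `M`. -/
noncomputable def pullTildeIso :
    tilde.functor R ⋙ Scheme.Modules.pullback (Spec.map φ) ≅
      ModuleCat.extendScalars φ.hom ⋙ tilde.functor S :=
  ((tilde.adjunction (R := R)).comp
      (Scheme.Modules.pullbackPushforwardAdjunction (Spec.map φ))).leftAdjointUniq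
    (((ModuleCat.extendRestrictScalarsAdj φ.hom).comp (tilde.adjunction (R := S))).ofNatIsoRight
      (pushΓIso φ).symm)

end Pull

section Kernel

variable {R : CommRingCat.{u}}

lemma app_smul_Spec {M N : (Spec R).Modules} (f : M ⟶ N) (U : (Spec R).Opens) (r : R)
    (x : Γ(M, U)) : f.app U (r • x) = r • f.app U x := by
  rw [Scheme.Modules.smul_Spec_def, Scheme.Modules.smul_Spec_def]
  exact Scheme.Modules.Hom.app_smul f _ x

lemma naturality_apply {M N : (Spec R).Modules} (f : M ⟶ N) {U V : (Spec R).Opens} (i : V ⟶ U)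
    (x : Γ(M, U)) : f.app V (M.presheaf.map i.op x) = N.presheaf.map i.op (f.app U x) :=
  congr($(f.mapPresheaf.naturality i.op) x)

/-- The kernel of a map of localizing modules on `Spec R` is localizing. -/
theorem isLocalizing_of_kernel {K M N : (Spec R).Modules} (f : M ⟶ N) (k : K ⟶ M)
    (hk : ∀ U, Function.Injective (k.app U)) (w : k ≫ f = 0)
    (hex : ∀ U (x : Γ(M, U)), f.app U x = 0 → ∃ y, k.app U y = x)
    (hM : IsLocalizing (modulesSpecToSheaf.obj M)) (hN : IsLocalizing (modulesSpecToSheaf.obj N)) :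
    IsLocalizing (modulesSpecToSheaf.obj K) := by
  intro r
  have hM' : IsLocalizedModule.Away r _ := hM r
  have hN' : IsLocalizedModule.Away r _ := hN r
  let D : (Spec R).Opens := PrimeSpectrum.basicOpen r
  let i : D ⟶ ⊤ := D.leTop
  refine IsLocalizedModule.Away.mk_of_addCommGroup ?_ ?_ ?_
  · exact Scheme.Modules.isUnit_algebraMap_end_of_le_basicOpen r le_rfl
  · intro x
    change Γ(K, D) at x
    obtain ⟨n, t, ht⟩ := IsLocalizedModule.Away.surj
      ((modulesSpecToSheaf.obj M).obj.map i.op).hom r (k.app D x)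
    change Γ(M, ⊤) at t
    change r ^ n • k.app D x = M.presheaf.map i.op t at ht
    have h1 : N.presheaf.map i.op (f.app ⊤ t) = 0 := by
      rw [← naturality_apply, ← ht, app_smul_Spec]
      have : f.app D (k.app D x) = 0 := congr(($w).app D x)
      rw [this, smul_zero]
    obtain ⟨⟨_, m, rfl⟩, hm⟩ := (IsLocalizedModule.eq_zero_iff (.powers r)
      ((modulesSpecToSheaf.obj N).obj.map i.op).hom).mp h1
    change r ^ m • f.app ⊤ t = 0 at hm
    rw [← app_smul_Spec] at hm
    obtain ⟨y, hy⟩ := hex ⊤ _ hm
    refine ⟨m + n, y, ?_⟩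
    change r ^ (m + n) • x = K.presheaf.map i.op y
    apply hk D
    rw [naturality_apply, hy, app_smul_Spec, pow_add, mul_smul, ht]
    exact (Scheme.Modules.map_smul_Spec i.op (r ^ m) t).symm
  · intro x hx
    change Γ(K, ⊤) at x
    change K.presheaf.map i.op x = 0 at hx
    have h1 : M.presheaf.map i.op (k.app ⊤ x) = 0 := by
      rw [← naturality_apply, hx, map_zero]
    obtain ⟨⟨_, m, rfl⟩, hm⟩ := (IsLocalizedModule.eq_zero_iff (.powers r)
      ((modulesSpecToSheaf.obj M).obj.map i.op).hom).mp h1
    change r ^ m • k.app ⊤ x = 0 at hm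
    refine ⟨m, ?_⟩
    change r ^ m • x = 0
    apply hk ⊤
    rw [app_smul_Spec, hm, map_zero]

lemma isLocalizing_kernel {M N : (Spec R).Modules} (f : M ⟶ N)
    (hM : IsLocalizing (modulesSpecToSheaf.obj M)) (hN : IsLocalizing (modulesSpecToSheaf.obj N)) :
    IsLocalizing (modulesSpecToSheaf.obj (kernel f)) := by
  have : Mono (kernel.ι f) := inferInstance
  exact isLocalizing_of_kernel f (kernel.ι f) (fun U => app_injective_of_mono _ U)
    (kernel.condition f) (fun U => exists_of_app_eq_zero f U) hM hN

/-- On `Spec R`, a map of localizing modules is an isomorphism if it is so on global sections. -/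
lemma isIso_of_top {M N : (Spec R).Modules} (f : M ⟶ N)
    (hM : IsLocalizing (modulesSpecToSheaf.obj M)) (hN : IsLocalizing (modulesSpecToSheaf.obj N))
    (h : Function.Bijective (f.app ⊤)) : IsIso f := by
  rw [← isIso_iff_of_reflects_iso _ modulesSpecToSheaf]
  refine isLocalizing_of_isIso_app_top ?_ hM hN
  rw [ConcreteCategory.isIso_iff_bijective]
  exact h

end Kernel

section IdealTilde

variable {A B : CommRingCat.{u}} (φ : A ⟶ B)

/-- the inclusion of the kernel ideal -/
noncomputable def kerIncl : ModuleCat.of A (RingHom.ker φ.hom) ⟶ ModuleCat.of A A :=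
  ModuleCat.ofHom (RingHom.ker φ.hom).subtype

end IdealTilde

end Groth.Agent.Smoothlim.TildePull
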