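import Groth.Agent.Smoothlim.OmegaSpec
import Mathlib.RingTheory.Unramified.LocalRing
import Mathlib.RingTheory.Etale.Kaehler
import Mathlib.AlgebraicGeometry.Morphisms.FiniteType
import Mathlib.AlgebraicGeometry.ResidueField
set_option autoImplicit false
universe u
open CategoryTheory AlgebraicGeometry Limits TopologicalSpace TensorProduct

namespace Groth.Agent.Smoothlim.OmegaStalk
open Groth.Agent.Smoothlim.ConormalRes Groth.Agent.Smoothlim.OmegaSpec

section Alg

variable (R A R' A' : Type u) [CommRing R] [CommRing A] [CommRing R'] [CommRing A']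
  [Algebra R A] [Algebra R R'] [Algebra A A'] [Algebra R' A'] [Algebra R A']
  [IsScalarTower R A A'] [IsScalarTower R R' A'] (M : Submonoid R) [IsLocalization M R']
  (q : Submonoid A) [IsLocalization q A']

include M in
lemma formallyUnramified_iff_subsingleton :
    Algebra.FormallyUnramified R' A' ↔ Subsingleton (LocalizedModule q (Ω[A⁄R])) := by
  have h1 : Algebra.FormallyUnramified R R' := Algebra.FormallyUnramified.of_isLocalization M
  have h2 : Algebra.FormallyUnramified R' A' ↔ Algebra.FormallyUnramified R A' :=
    ⟨fun _ => Algebra.FormallyUnramified.comp R R' A', fun _ =>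
      Algebra.FormallyUnramified.of_restrictScalars R R' A'⟩
  rw [h2, Algebra.formallyUnramified_iff]
  have h3 : IsLocalizedModule q (KaehlerDifferential.map R R A A') := inferInstance
  exact (IsLocalizedModule.iso q (KaehlerDifferential.map R R A A')).toEquiv.subsingleton_congr.symm

end Alg

section Geom

variable {R A : CommRingCat.{u}} (φ : R ⟶ A) {X S : Scheme.{u}} (f : X ⟶ S) [QuasiSeparated f]
  (j : Spec A ⟶ X) (l : Spec R ⟶ S) [IsOpenImmersion j] [IsOpenImmersion l]

lemma subsingleton_congr_of_iso {X : Scheme.{u}} {M N : X.Modules} (e : M ≅ N) (x : X) :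
    Subsingleton (M.presheaf.stalk x) ↔ Subsingleton (N.presheaf.stalk x) := by
  have i : M.presheaf.stalk x ≅ N.presheaf.stalk x :=
    (Scheme.Modules.toPresheaf X ⋙ TopCat.Presheaf.stalkFunctor _ x).mapIso e
  exact (ConcreteCategory.bijective_of_isIso i.hom |> Equiv.ofBijective _).subsingleton_congr

lemma subsingleton_stalk_restrict {X Y : Scheme.{u}} (j : X ⟶ Y) [IsOpenImmersion j]
    (M : Y.Modules) (x : X) :
    Subsingleton ((M.restrict j).presheaf.stalk x) ↔ Subsingleton (M.presheaf.stalk (j x)) := by
  have i := (Scheme.Modules.restrictStalkNatIso j x).app M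
  exact (ConcreteCategory.bijective_of_isIso i.hom |> Equiv.ofBijective _).subsingleton_congr

lemma subsingleton_stalk_tilde {A : CommRingCat.{u}} (M : ModuleCat.{u} A) (x : Spec A) :
    Subsingleton ((tilde M).presheaf.stalk x) ↔
      Subsingleton (LocalizedModule x.asIdeal.primeCompl M) := by
  exact (IsLocalizedModule.iso x.asIdeal.primeCompl (tilde.toStalk M x).hom).toEquiv.subsingleton_congr.symm

include l in
lemma subsingleton_stalk_omega (h : j ≫ f = Spec.map φ ≫ l) (x : Spec A) :
    letI := φ.hom.toAlgebra
    Subsingleton ((Omega.sheaf f).presheaf.stalk (j x)) ↔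
      Subsingleton (LocalizedModule x.asIdeal.primeCompl (Ω[A⁄R])) := by
  letI := φ.hom.toAlgebra
  have h1 := subsingleton_stalk_restrict j (Omega.sheaf f) x
  have h2 := subsingleton_congr_of_iso ((Scheme.Modules.restrictFunctorIsoPullback j).app
    (Omega.sheaf f)) x
  have h3 := subsingleton_congr_of_iso (omegaRestrictIso (f' := Spec.map φ) (j := j) (l := l) h) x
  have h4 := subsingleton_congr_of_iso (omegaSpecIso R A) x
  have h5 := subsingleton_stalk_tilde (A := A) (ModuleCat.of A (Ω[A⁄R])) x
  exact h1.symm.trans (h2.trans (h3.trans (h4.trans h5)))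

end Geom

end Groth.Agent.Smoothlim.OmegaStalk
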