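import Groth.Agent.Smoothlim.ImmersionStage
import Mathlib.AlgebraicGeometry.Morphisms.ClosedImmersion

/-!
Closed immersions into a limit of schemes descend to a stage (Stacks 081B).
-/

set_option autoImplicit false
universe u
open CategoryTheory AlgebraicGeometry Limits

namespace Groth.Agent.Smoothlim.ClosedStage

theorem isClosedImmersion_restrict_of {X S : Scheme.{u}} (f : X ⟶ S) (W : S.Opens)
    (hW : IsAffineOpen W) (h1 : IsAffineOpen (f ⁻¹ᵁ W))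
    (h2 : Function.Surjective (f.app W).hom) : IsClosedImmersion (f ∣_ W) := by
  have : IsAffine W := hW
  rw [HasAffineProperty.iff_of_isAffine (P := @IsClosedImmersion)]
  refine ⟨h1, ?_⟩
  rw [← Scheme.Hom.resLE_eq_morphismRestrict, Scheme.Hom.appTop, Scheme.Hom.resLE_app_top]
  have h1 : Function.Surjective (W.topIso.hom).hom :=
    (ConcreteCategory.bijective_of_isIso W.topIso.hom).2
  have h2' : Function.Surjective ((f ⁻¹ᵁ W).topIso.inv).hom :=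
    (ConcreteCategory.bijective_of_isIso (f ⁻¹ᵁ W).topIso.inv).2
  rw [Scheme.Hom.app_eq_appLE] at h2
  exact (h2'.comp h2).comp h1

theorem surjective_app_of_appLE {X Y : Scheme.{u}} (f : X ⟶ Y) (W : Y.Opens) {V : X.Opens}
    (e : V = f ⁻¹ᵁ W) (h : Function.Surjective (f.appLE W V e.le).hom) :
    Function.Surjective (f.app W).hom := by
  subst e
  rwa [Scheme.Hom.app_eq_appLE]

/-- A closed immersion into a limit with `Y → S` of finite type is a closed immersion into some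
stage. -/
theorem exists_isClosedImmersion {I : Type u} [SmallCategory I] [IsCofiltered I]
    (D : I ⥤ Scheme.{u}) (c : Cone D) (hc : IsLimit c)
    [∀ {i j : I} (f : i ⟶ j), IsAffineHom (D.map f)] {Y S : Scheme.{u}} (h : Y ⟶ c.pt)
    [IsClosedImmersion h] (i₀ : I) [CompactSpace (D.obj i₀)] (p : D.obj i₀ ⟶ S)
    [LocallyOfFiniteType ((h ≫ c.π.app i₀) ≫ p)] :
    ∃ (k : I) (_ : k ⟶ i₀), IsClosedImmersion (h ≫ c.π.app k) := by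
  classical
  have h0 : ∀ x : D.obj i₀, ∃ (U : S.Opens) (V : (D.obj i₀).Opens), IsAffineOpen U ∧
      IsAffineOpen V ∧ x ∈ V ∧ V ≤ p ⁻¹ᵁ U := by
    intro x
    obtain ⟨U, hU, hxU, -⟩ := exists_isAffineOpen_mem_and_subset (X := S) (x := p x)
      (U := ⊤) trivial
    obtain ⟨V, hV, hxV, hVU⟩ := exists_isAffineOpen_mem_and_subset (X := D.obj i₀) (x := x)
      (U := p ⁻¹ᵁ U) hxU
    exact ⟨U, V, hU, hV, hxV, hVU⟩
  choose U V hU hV hxV hVU using h0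
  obtain ⟨t, ht⟩ := CompactSpace.elim_nhds_subcover (X := D.obj i₀) (fun x => (V x : Set _))
    (fun x => (V x).2.mem_nhds (hxV x))
  have hπaff := fun i => isAffineHom_π_app D c hc i
  have hVaff' : ∀ x, IsAffineOpen (c.π.app i₀ ⁻¹ᵁ V x) := by
    intro x
    have := hπaff i₀
    exact (hV x).preimage (c.π.app i₀)
  have hVaff : ∀ x, IsAffineOpen (h ⁻¹ᵁ (c.π.app i₀ ⁻¹ᵁ V x)) := fun x => (hVaff' x).preimage h
  have hVU' : ∀ x, h ⁻¹ᵁ (c.π.app i₀ ⁻¹ᵁ V x) ≤ ((h ≫ c.π.app i₀) ≫ p) ⁻¹ᵁ U x := by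
    intro x
    rw [Scheme.Hom.comp_preimage, Scheme.Hom.comp_preimage]
    exact Scheme.Hom.preimage_mono _ (Scheme.Hom.preimage_mono _ (hVU x))
  have h1 : ∀ x, ∃ T : Finset Γ(Y, h ⁻¹ᵁ (c.π.app i₀ ⁻¹ᵁ V x)),
      ∀ R : Subring Γ(Y, h ⁻¹ᵁ (c.π.app i₀ ⁻¹ᵁ V x)),
      (((h ≫ c.π.app i₀) ≫ p).appLE (U x) (h ⁻¹ᵁ (c.π.app i₀ ⁻¹ᵁ V x)) (hVU' x)).hom.range ≤ R →
        (T : Set Γ(Y, h ⁻¹ᵁ (c.π.app i₀ ⁻¹ᵁ V x))) ⊆ R → R = ⊤ :=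
    fun x => ImmersionStage.exists_finset_of_finiteType _
      (Scheme.Hom.finiteType_appLE _ (hU x) (hVaff x) (hVU' x))
  choose T hT using h1
  have h2 : ∀ y : (Σ x : t, T x.1), ∃ (k : I) (a : k ⟶ i₀) (s : Γ(D.obj k, D.map a ⁻¹ᵁ (V y.1))),
      (h.app (c.π.app i₀ ⁻¹ᵁ V y.1)).hom
        (((c.π.app k).appLE (D.map a ⁻¹ᵁ (V y.1)) (c.π.app i₀ ⁻¹ᵁ V y.1)
          (ImmersionStage.preimage_eq D c a (V y.1)).ge).hom s) = y.2.1 := by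
    intro y
    obtain ⟨z, hz⟩ := h.app_surjective _ (hVaff' y.1.1) y.2.1
    obtain ⟨k, a, s, hs⟩ := ImmersionStage.exists_appLE_eq D c hc (hV y.1.1) z
    exact ⟨k, a, s, by rw [hs]; exact hz⟩
  choose k a s hs using h2
  obtain ⟨k', b, bk, hbk⟩ := IsCofiltered.wideCospan a
  refine ⟨k', b, ?_⟩
  refine IsZariskiLocalAtTarget.of_forall_exists_morphismRestrict (P := @IsClosedImmersion) ?_
  intro z
  obtain ⟨x, hx, hzx⟩ := Set.mem_iUnion₂.mp (ht.ge (Set.mem_univ (D.map b z)))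
  refine ⟨D.map b ⁻¹ᵁ V x, hzx, ?_⟩
  have heq : (h ≫ c.π.app k') ⁻¹ᵁ D.map b ⁻¹ᵁ V x = h ⁻¹ᵁ (c.π.app i₀ ⁻¹ᵁ V x) := by
    rw [Scheme.Hom.comp_preimage, ImmersionStage.preimage_eq]
  refine isClosedImmersion_restrict_of _ _ ((hV x).preimage _) (by rw [heq]; exact hVaff x) ?_
  refine surjective_app_of_appLE _ _ heq.symm ?_
  rw [← RingHom.range_eq_top]
  apply hT x
  · rintro _ ⟨r, rfl⟩
    have e1 : D.map b ⁻¹ᵁ V x ≤ (D.map b ≫ p) ⁻¹ᵁ U x := by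
      rw [Scheme.Hom.comp_preimage]
      exact Scheme.Hom.preimage_mono _ (hVU x)
    refine ⟨((D.map b ≫ p).appLE (U x) (D.map b ⁻¹ᵁ V x) e1).hom r, ?_⟩
    rw [← ImmersionStage.appLE_of_comp_eq (h ≫ c.π.app k') (D.map b ≫ p) ((h ≫ c.π.app i₀) ≫ p)
      (by rw [Category.assoc, Category.assoc, ← c.w b, Category.assoc]) (U x) (D.map b ⁻¹ᵁ V x) _
      e1 heq.ge]
    rfl
  · intro y hy
    have h3 := hs ⟨⟨x, hx⟩, ⟨y, hy⟩⟩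
    dsimp only at h3
    have h4 : D.map b ⁻¹ᵁ (V x) =
        D.map (bk ⟨⟨x, hx⟩, ⟨y, hy⟩⟩) ⁻¹ᵁ D.map (a ⟨⟨x, hx⟩, ⟨y, hy⟩⟩) ⁻¹ᵁ (V x) := by
      rw [← Scheme.Hom.comp_preimage, ← D.map_comp, hbk]
    refine ⟨((D.map (bk ⟨⟨x, hx⟩, ⟨y, hy⟩⟩)).appLE (D.map (a ⟨⟨x, hx⟩, ⟨y, hy⟩⟩) ⁻¹ᵁ (V x)) _
      h4.le).hom (s ⟨⟨x, hx⟩, ⟨y, hy⟩⟩), ?_⟩
    refine Eq.trans ?_ h3
    rw [Scheme.Hom.app_eq_appLE]
    have h5 := ImmersionStage.appLE_of_comp_eq h (c.π.app (k ⟨⟨x, hx⟩, ⟨y, hy⟩⟩))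
      (h ≫ c.π.app (k ⟨⟨x, hx⟩, ⟨y, hy⟩⟩)) rfl (D.map (a ⟨⟨x, hx⟩, ⟨y, hy⟩⟩) ⁻¹ᵁ (V x))
      (c.π.app i₀ ⁻¹ᵁ V x) (h ⁻¹ᵁ (c.π.app i₀ ⁻¹ᵁ V x))
      (ImmersionStage.preimage_eq D c (a ⟨⟨x, hx⟩, ⟨y, hy⟩⟩) (V x)).ge le_rfl (by
        rw [Scheme.Hom.comp_preimage, ImmersionStage.preimage_eq])
    have h6 := ImmersionStage.appLE_of_comp_eq (h ≫ c.π.app k') (D.map (bk ⟨⟨x, hx⟩, ⟨y, hy⟩⟩))
      (h ≫ c.π.app (k ⟨⟨x, hx⟩, ⟨y, hy⟩⟩)) (by rw [Category.assoc, c.w])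
      (D.map (a ⟨⟨x, hx⟩, ⟨y, hy⟩⟩) ⁻¹ᵁ (V x)) (D.map b ⁻¹ᵁ V x)
      (h ⁻¹ᵁ (c.π.app i₀ ⁻¹ᵁ V x)) h4.le heq.ge (by
        rw [Scheme.Hom.comp_preimage, ImmersionStage.preimage_eq])
    exact congr(($(h6.trans h5.symm)).hom (s ⟨⟨x, hx⟩, ⟨y, hy⟩⟩))

end Groth.Agent.Smoothlim.ClosedStage
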