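import Groth.Agent.Smoothlim.GenFin
import Mathlib.AlgebraicGeometry.Morphisms.Finite
import Mathlib.AlgebraicGeometry.Morphisms.QuasiFinite
import Mathlib.AlgebraicGeometry.Morphisms.QuasiSeparated

open CategoryTheory AlgebraicGeometry TopologicalSpace

namespace Groth.Agent.Smoothlim.GenFinSch

universe u

/-- `x` has no proper generization. -/
def IsGen {X : Type*} [TopologicalSpace X] (x : X) : Prop := ∀ y, y ⤳ x → y = x

theorem isGen_iff {X : Type*} [TopologicalSpace X] [QuasiSober X] [T0Space X] (x : X) :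
    IsGen x ↔ closure {x} ∈ irreducibleComponents X := by
  constructor
  · intro h
    refine ⟨isIrreducible_singleton.closure, ?_⟩
    intro Z hZ hle
    obtain ⟨y, hy⟩ := QuasiSober.sober hZ.closure isClosed_closure
    have hyx : y ⤳ x := by
      rw [specializes_iff_mem_closure, hy.def]
      exact subset_closure (hle (subset_closure rfl))
    have := h y hyx
    subst this
    rw [hy.def]
    exact subset_closure
  · intro h y hyx
    have h1 : closure {x} ⊆ closure {y} := hyx.closure_subset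
    have h2 := h.2 isIrreducible_singleton.closure h1
    have h3 : x ⤳ y := by
      rw [specializes_iff_mem_closure]
      exact h2 (subset_closure rfl)
    exact (hyx.antisymm h3).eq

theorem isGen_of_isOpenEmbedding {X Y : Type*} [TopologicalSpace X] [TopologicalSpace Y] {f : X → Y}
    (hf : Topology.IsOpenEmbedding f) (x : X) : IsGen (f x) ↔ IsGen x := by
  constructor
  · intro h y hy
    exact hf.injective (h _ (hy.map hf.continuous))
  · intro h y hy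
    obtain ⟨z, rfl⟩ : y ∈ Set.range f := hy.mem_open hf.isOpen_range ⟨x, rfl⟩
    rw [hf.isInducing.specializes_iff] at hy
    rw [h z hy]

theorem exists_isFinite_SpecMap {R S : CommRingCat.{u}} (φ : R ⟶ S)
    (hφ : φ.hom.FiniteType) (η : Spec R) (hη : IsGen η)
    (hfin : (Spec.map φ ⁻¹' {η}).Finite) :
    ∃ V : (Spec R).Opens, η ∈ V ∧ IsFinite (Spec.map φ ∣_ V) := by
  have hη' : η.asIdeal ∈ minimalPrimes R := by
    refine ⟨⟨η.isPrime, bot_le⟩, ?_⟩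
    rintro q ⟨hq, -⟩ hle
    have := hη ⟨q, hq⟩ ((PrimeSpectrum.le_iff_specializes _ _).mp hle)
    rw [← this]
  algebraize [φ.hom]
  obtain ⟨g, hg, hg'⟩ := Groth.Agent.Smoothlim.GenFin.exists_almostIntegral_eq_top (R := R) (S := S)
    η.asIdeal hη' hfin
  refine ⟨PrimeSpectrum.basicOpen g, hg, ?_⟩
  rw [MorphismProperty.arrow_mk_iso_iff @IsFinite (SpecMapRestrictBasicOpenIso φ g)]
  rw [IsFinite.SpecMap_iff]
  exact Groth.Agent.Smoothlim.GenFin.finite_awayMap_of_almostIntegral hg'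

theorem exists_isFinite_of_isAffine {X Y : Scheme.{u}} (f : X ⟶ Y) [LocallyOfFiniteType f]
    [IsAffine X] [IsAffine Y] (η : Y) (hη : IsGen η)
    (hfin : (f ⁻¹' {η}).Finite) : ∃ V : Y.Opens, η ∈ V ∧ IsFinite (f ∣_ V) := by
  have e : f = X.isoSpec.hom ≫ Spec.map f.appTop ≫ Y.isoSpec.inv := by
    rw [Scheme.isoSpec_hom_naturality_assoc]; simp
  have e' : Spec.map f.appTop = X.isoSpec.inv ≫ f ≫ Y.isoSpec.hom := by
    rw [← Scheme.isoSpec_hom_naturality]; simp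
  have hft : LocallyOfFiniteType (Spec.map f.appTop) := by
    rw [e']; infer_instance
  obtain ⟨V, hηV, hV⟩ := exists_isFinite_SpecMap f.appTop
    ((HasRingHomProperty.Spec_iff (P := @LocallyOfFiniteType)).mp hft) (Y.isoSpec.hom η) (by
      rwa [isGen_of_isOpenEmbedding Y.isoSpec.hom.isOpenEmbedding]) (by
      have : Spec.map f.appTop ⁻¹' {Y.isoSpec.hom η} = X.isoSpec.inv ⁻¹' (f ⁻¹' {η}) := by
        ext z
        rw [e']
        simp only [Set.mem_preimage, Set.mem_singleton_iff, Scheme.Hom.comp_apply]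
        exact Y.isoSpec.hom.isOpenEmbedding.injective.eq_iff
      rw [this]
      exact hfin.preimage X.isoSpec.inv.isOpenEmbedding.injective.injOn)
  refine ⟨Y.isoSpec.hom ⁻¹ᵁ V, hηV, ?_⟩
  rw [e, morphismRestrict_comp, morphismRestrict_comp]
  have : Y.isoSpec.inv ⁻¹ᵁ Y.isoSpec.hom ⁻¹ᵁ V = V := by
    rw [← Scheme.Hom.comp_preimage]; simp
  have hV' : IsFinite (Spec.map f.appTop ∣_ Y.isoSpec.inv ⁻¹ᵁ Y.isoSpec.hom ⁻¹ᵁ V) := by
    rw [this]; exact hV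
  have h2 : IsFinite (Y.isoSpec.inv ∣_ Y.isoSpec.hom ⁻¹ᵁ V) := inferInstance
  have h1 : IsFinite
    (X.isoSpec.hom ∣_ (Spec.map (Scheme.Hom.appTop f) ≫ Y.isoSpec.inv) ⁻¹ᵁ Y.isoSpec.hom ⁻¹ᵁ V) :=
    inferInstance
  exact @IsFinite.instCompScheme _ _ _ _ _ h1 (@IsFinite.instCompScheme _ _ _ _ _ hV' h2)

theorem isFinite_restrict_of_le {X Y : Scheme.{u}} (f : X ⟶ Y) {V V' : Y.Opens} (h : V ≤ V')
    (hf : IsFinite (f ∣_ V')) : IsFinite (f ∣_ V) := by
  have h1 : IsFinite (f ∣_ V' ∣_ (V'.ι ⁻¹ᵁ V)) := inferInstance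
  rw [MorphismProperty.arrow_mk_iso_iff @IsFinite (morphismRestrictRestrict f V' (V'.ι ⁻¹ᵁ V))] at h1
  rwa [MorphismProperty.arrow_mk_iso_iff @IsFinite (morphismRestrictEq f
    (show V'.ι ''ᵁ V'.ι ⁻¹ᵁ V = V by
      rw [Scheme.Hom.image_preimage_eq_opensRange_inf]; simpa using h))] at h1

theorem isFinite_restrict_of_preimage_le {X Y : Scheme.{u}} (f : X ⟶ Y) {V : Y.Opens}
    {U : X.Opens} (hU : f ⁻¹ᵁ V ≤ U) (hf : IsFinite ((U.ι ≫ f) ∣_ V)) : IsFinite (f ∣_ V) := by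
  rw [morphismRestrict_comp] at hf
  have : IsIso (U.ι ∣_ f ⁻¹ᵁ V) := by
    rw [isIso_iff_isOpenImmersion_and_epi_base]
    refine ⟨inferInstance, (TopCat.epi_iff_surjective _).mpr fun x => ?_⟩
    refine ⟨⟨⟨x.1, hU x.2⟩, x.2⟩, ?_⟩
    apply Subtype.ext
    exact morphismRestrict_base_coe _ _ _
  exact (MorphismProperty.cancel_left_of_respectsIso @IsFinite (U.ι ∣_ f ⁻¹ᵁ V) (f ∣_ V)).mp hf

theorem exists_disjoint_image {X Y : Scheme.{u}} (f : X ⟶ Y) [LocallyOfFiniteType f]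
    [IsAffine Y] (η : Y) (hη : IsGen η) (hfin : (f ⁻¹' {η}).Finite) (U W : X.Opens)
    (hfU : f ⁻¹' {η} ⊆ U) (hW : IsAffineOpen W) :
    ∃ V : Y.Opens, η ∈ V ∧ ∀ x ∈ W, f x ∈ V → x ∈ U := by
  have : IsAffine W := hW
  obtain ⟨V', hηV', hV'⟩ := exists_isFinite_of_isAffine (W.ι ≫ f) η hη (by
    have : (W.ι ≫ f) ⁻¹' {η} = W.ι ⁻¹' (f ⁻¹' {η}) := by
      ext; simp
    rw [this]
    exact hfin.preimage W.ι.isOpenEmbedding.injective.injOn)
  have hcl := ((W.ι ≫ f) ∣_ V').isClosedMap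
  let C : Set ((W.ι ≫ f) ⁻¹ᵁ V') := ((((W.ι ≫ f) ⁻¹ᵁ V').ι ≫ W.ι) ⁻¹' (U : Set X))ᶜ
  have hC : IsClosed C := by
    rw [isClosed_compl_iff]
    exact U.isOpen.preimage (Scheme.Hom.continuous _)
  have hO := (hcl C hC).isOpen_compl
  refine ⟨V'.ι ''ᵁ ⟨_, hO⟩, ⟨⟨η, hηV'⟩, ?_, rfl⟩, ?_⟩
  · rintro ⟨w, hw, hwη⟩
    apply hw
    have h1 := congrArg Subtype.val hwη
    rw [morphismRestrict_base_coe] at h1
    exact hfU h1
  · rintro x hx ⟨y, hy, hyx⟩
    by_contra hxU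
    have hyV : f x ∈ V' := by
      rw [← hyx]; exact y.2
    apply hy
    refine ⟨⟨⟨x, hx⟩, hyV⟩, hxU, ?_⟩
    apply Subtype.ext
    rw [morphismRestrict_base_coe]
    exact hyx.symm

theorem exists_isFinite_restrict_of_isAffineOpen {X Y : Scheme.{u}} (f : X ⟶ Y)
    [LocallyOfFiniteType f] [CompactSpace X]
    [IsAffine Y] (η : Y) (hη : IsGen η) (hfin : (f ⁻¹' {η}).Finite) (U : X.Opens)
    (hfU : f ⁻¹' {η} ⊆ U) (hU : IsAffineOpen U) :
    ∃ V : Y.Opens, η ∈ V ∧ IsFinite (f ∣_ V) := by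
  have : IsAffine U := hU
  obtain ⟨V₀, hηV₀, hV₀⟩ := exists_isFinite_of_isAffine (U.ι ≫ f) η hη (by
    have : (U.ι ≫ f) ⁻¹' {η} = U.ι ⁻¹' (f ⁻¹' {η}) := by
      ext; simp
    rw [this]
    exact hfin.preimage U.ι.isOpenEmbedding.injective.injOn)
  obtain ⟨s, hs, hs'⟩ : ∃ s : Set X.Opens, s.Finite ∧ (∀ W ∈ s, IsAffineOpen W) ∧
      ∀ x, ∃ W ∈ s, x ∈ W := by
    obtain ⟨s, hs, hs'⟩ := isCompact_and_isOpen_iff_finite_and_eq_biUnion_affineOpens.mp
      (⟨isCompact_univ, isOpen_univ⟩ : IsCompact (Set.univ : Set X) ∧ IsOpen Set.univ)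
    refine ⟨Subtype.val '' s, hs.image _, ?_, fun x => ?_⟩
    · rintro _ ⟨W, -, rfl⟩
      exact W.2
    · obtain ⟨W, hW, hxW⟩ := Set.mem_iUnion₂.mp (hs'.le (Set.mem_univ x))
      exact ⟨W.1, ⟨W, hW, rfl⟩, hxW⟩
  choose! V hηV hV using fun W hW => exists_disjoint_image f η hη hfin U W hfU (hs'.1 W hW)
  have hopen : IsOpen (⋂ W ∈ s, (V W : Set Y)) := hs.isOpen_biInter fun W _ => (V W).isOpen
  refine ⟨V₀ ⊓ ⟨_, hopen⟩, ⟨hηV₀, Set.mem_iInter₂.mpr fun W hW => hηV W hW⟩, ?_⟩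
  refine isFinite_restrict_of_preimage_le f (U := U) ?_ (isFinite_restrict_of_le _ inf_le_left hV₀)
  rintro x ⟨-, hx⟩
  obtain ⟨W, hWs, hxW⟩ := hs'.2 x
  exact hV W hWs x hxW (Set.mem_iInter₂.mp hx W hWs)

/-- In an affine scheme, a generic point can be separated from a quasi-compact open. -/
theorem exists_disjoint_of_isGen_Spec {R : Type u} [CommRing R] (x : PrimeSpectrum R) (hx : IsGen x)
    (K : Set (PrimeSpectrum R)) (hK : IsCompact K) (hK' : IsOpen K) (hxK : x ∉ K) :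
    ∃ P : Set (PrimeSpectrum R), IsOpen P ∧ x ∈ P ∧ Disjoint P K := by
  obtain ⟨t, ht⟩ := PrimeSpectrum.isCompact_isOpen_iff.mp ⟨hK, hK'⟩
  have hx' : x.asIdeal ∈ minimalPrimes R := by
    refine ⟨⟨x.isPrime, bot_le⟩, ?_⟩
    rintro q ⟨hq, -⟩ hle
    have := hx ⟨q, hq⟩ ((PrimeSpectrum.le_iff_specializes _ _).mp hle)
    rw [← this]
  have key : ∀ f ∈ t, ∃ s ∉ x.asIdeal, ∃ n : ℕ, s * f ^ n = 0 := by
    intro f hf
    have hfx : f ∈ x.asIdeal := by
      have : x ∈ PrimeSpectrum.zeroLocus (t : Set R) := by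
        by_contra h
        exact hxK (ht ▸ h)
      exact this hf
    exact Groth.Agent.Smoothlim.GenFin.exists_mul_pow_eq_zero (S := R) x.asIdeal hx' f
      (fun q _ hq => by
        rw [← hq] at hfx
        exact hfx)
  choose! s hs n hn using key
  refine ⟨PrimeSpectrum.basicOpen (∏ f ∈ t, s f), (PrimeSpectrum.basicOpen _).isOpen, ?_, ?_⟩
  · change ¬ (_ ∈ x.asIdeal)
    rw [x.isPrime.prod_mem_iff]
    push Not
    exact hs
  · rw [Set.disjoint_left]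
    intro z hz hzK
    rw [← ht] at hzK
    have hz' : ¬ (_ ∈ z.asIdeal) := hz
    rw [z.isPrime.prod_mem_iff] at hz'
    push Not at hz'
    obtain ⟨f, hf, hfz⟩ := Set.not_subset.mp hzK
    have := z.asIdeal.zero_mem
    rw [← hn f hf] at this
    exact (z.isPrime.mem_or_mem this).elim (hz' f hf) (fun h => hfz (z.isPrime.mem_of_pow_mem _ h))

theorem exists_disjoint_of_isGen {X : Scheme.{u}} (A : X.Opens) (hA : IsAffineOpen A) (x : X)
    (hxA : x ∈ A) (hx : IsGen x) (K : Set X) (hK : IsCompact K) (hK' : IsOpen K) (hKA : K ⊆ A)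
    (hxK : x ∉ K) :
    ∃ P : Set X, IsOpen P ∧ x ∈ P ∧ Disjoint P K := by
  obtain ⟨y, rfl⟩ : x ∈ Set.range hA.fromSpec := by rwa [hA.range_fromSpec]
  rw [isGen_of_isOpenEmbedding hA.fromSpec.isOpenEmbedding] at hx
  obtain ⟨P, hP, hyP, hPK⟩ := exists_disjoint_of_isGen_Spec y hx (hA.fromSpec ⁻¹' K)
    (by
      rw [← hA.fromSpec.isOpenEmbedding.isInducing.isCompact_preimage_iff] at hK
      · exact hK
      · rwa [hA.range_fromSpec]) (hK'.preimage hA.fromSpec.continuous) hxK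
  refine ⟨hA.fromSpec '' P, hA.fromSpec.isOpenEmbedding.isOpenMap _ hP, ⟨y, hyP, rfl⟩, ?_⟩
  rw [Set.disjoint_left] at hPK ⊢
  rintro _ ⟨z, hz, rfl⟩ hzK
  exact hPK hz hzK

theorem exists_separation {X : Scheme.{u}} [QuasiSeparatedSpace X] (x y : X) (hx : IsGen x)
    (hy : IsGen y) (hxy : x ≠ y) :
    ∃ P Q : Set X, IsOpen P ∧ IsOpen Q ∧ x ∈ P ∧ y ∈ Q ∧ Disjoint P Q := by
  obtain ⟨A, hA, hxA, -⟩ := exists_isAffineOpen_mem_and_subset (U := ⊤) (x := x) trivial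
  obtain ⟨B, hB, hyB, hB'⟩ := exists_isAffineOpen_mem_and_subset (x := y)
    (U := ⟨(closure {x})ᶜ, isClosed_closure.isOpen_compl⟩) (by
      intro h
      exact hxy (hy x (specializes_iff_mem_closure.mpr h)))
  have hxB : x ∉ B := fun h => hB' h (subset_closure rfl)
  have hK : IsCompact ((A : Set X) ∩ B) :=
    QuasiSeparatedSpace.inter_isCompact _ _ A.isOpen hA.isCompact B.isOpen hB.isCompact
  obtain ⟨P, hP, hxP, hPK⟩ := exists_disjoint_of_isGen A hA x hxA hx _ hK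
    (A.isOpen.inter B.isOpen) Set.inter_subset_left (fun h => hxB h.2)
  refine ⟨P ∩ A, B, hP.inter A.isOpen, B.isOpen, ⟨hxP, hxA⟩, hyB, ?_⟩
  rw [Set.disjoint_left] at hPK ⊢
  exact fun z hz hzB => hPK hz.1 ⟨hz.2, hzB⟩

theorem exists_separation_of_finite {X : Type*} [TopologicalSpace X] [QuasiSober X] [T0Space X]
    (hX : (irreducibleComponents X).Finite) (x y : X)
    (hx : IsGen x) (hy : IsGen y) (hxy : x ≠ y) :
    ∃ P Q : Set X, IsOpen P ∧ IsOpen Q ∧ x ∈ P ∧ y ∈ Q ∧ Disjoint P Q := by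
  have hopen : ∀ z : X, IsOpen (⋃ C ∈ irreducibleComponents X \ {closure {z}}, C)ᶜ := by
    intro z
    rw [isOpen_compl_iff]
    exact (hX.subset Set.sdiff_subset).isClosed_biUnion
      fun C hC => isClosed_of_mem_irreducibleComponents C hC.1
  have hmem : ∀ z : X, IsGen z → z ∈ (⋃ C ∈ irreducibleComponents X \ {closure {z}}, C)ᶜ := by
    intro z hz h
    obtain ⟨C, ⟨hC, hC'⟩, hzC⟩ := Set.mem_iUnion₂.mp h
    apply hC'
    have h1 : closure {z} ⊆ C :=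
      (isClosed_of_mem_irreducibleComponents C hC).closure_subset_iff.mpr (by simpa using hzC)
    exact subset_antisymm (((isGen_iff z).mp hz).2 hC.1 h1) h1
  refine ⟨_, _, hopen x, hopen y, hmem x hx, hmem y hy, ?_⟩
  rw [Set.disjoint_left]
  intro z hz1 hz2
  have hzc := irreducibleComponent_mem_irreducibleComponents z
  have h1 : irreducibleComponent z = closure {x} := by
    by_contra h
    exact hz1 (Set.mem_iUnion₂.mpr ⟨_, ⟨hzc, h⟩, mem_irreducibleComponent⟩)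
  have h2 : irreducibleComponent z = closure {y} := by
    by_contra h
    exact hz2 (Set.mem_iUnion₂.mpr ⟨_, ⟨hzc, h⟩, mem_irreducibleComponent⟩)
  apply hxy
  have h3 : closure {x} = closure {y} := h1.symm.trans h2
  exact (inseparable_iff_closure_eq.mpr h3).eq

theorem exists_isAffineOpen_of_separated {X : Scheme.{u}} (E : Set X) (hE : E.Finite)
    (hsep : ∀ x ∈ E, ∀ y ∈ E, x ≠ y →
      ∃ P Q : Set X, IsOpen P ∧ IsOpen Q ∧ x ∈ P ∧ y ∈ Q ∧ Disjoint P Q) :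
    ∃ U : X.Opens, IsAffineOpen U ∧ E ⊆ U := by
  classical
  choose! P Q hP hQ hxP hyQ hPQ using hsep
  have key : ∀ x ∈ E, ∃ U : X.Opens, IsAffineOpen U ∧ x ∈ U ∧
      ∀ y ∈ E, x ≠ y → (U : Set X) ⊆ P x y ∧ (U : Set X) ⊆ Q y x := by
    intro x hx
    have hfin : (E \ {x}).Finite := hE.subset Set.sdiff_subset
    have hopen : IsOpen (⋂ y ∈ E \ {x}, (P x y ∩ Q y x)) :=
      hfin.isOpen_biInter fun y hy => (hP x hx y hy.1 (Ne.symm hy.2)).inter
        (hQ y hy.1 x hx hy.2)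
    obtain ⟨U, hU, hxU, hU'⟩ := exists_isAffineOpen_mem_and_subset (x := x)
      (U := ⟨_, hopen⟩) (Set.mem_iInter₂.mpr fun y hy =>
        ⟨hxP x hx y hy.1 (Ne.symm hy.2), hyQ y hy.1 x hx hy.2⟩)
    refine ⟨U, hU, hxU, fun y hy hxy => ⟨fun z hz => ?_, fun z hz => ?_⟩⟩
    · exact (Set.mem_iInter₂.mp (hU' hz) y ⟨hy, Ne.symm hxy⟩).1
    · exact (Set.mem_iInter₂.mp (hU' hz) y ⟨hy, Ne.symm hxy⟩).2
  choose! U hU hxU hU' using key
  refine ⟨⨆ x ∈ E, U x, IsAffineOpen.biSup_of_disjoint hE hU ?_, ?_⟩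
  · intro x hx y hy hxy
    rw [Function.onFun, ← Opens.coe_disjoint]
    exact (hPQ x hx y hy hxy).mono (hU' x hx y hy hxy).1 (hU' y hy x hx hxy.symm).2
  · intro x hx
    simp only [Opens.coe_iSup, Set.mem_iUnion]
    exact ⟨x, hx, hxU x hx⟩

theorem isGen_of_mem_fiber {X Y : Scheme.{u}} (f : X ⟶ Y) [LocallyOfFiniteType f]
    [IsAffine Y] (η : Y) (hη : IsGen η) (hfin : (f ⁻¹' {η}).Finite) (x : X) (hx : f x = η) :
    IsGen x := by
  intro y hyx
  have hy : f y = η := by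
    apply hη
    rw [← hx]
    exact hyx.map f.continuous
  obtain ⟨W, hW, hxW, -⟩ := exists_isAffineOpen_mem_and_subset (U := ⊤) (x := x) trivial
  have : IsAffine W := hW
  have hyW : y ∈ W := hyx.mem_open W.isOpen hxW
  obtain ⟨V, hηV, hV⟩ := exists_isFinite_of_isAffine (W.ι ≫ f) η hη (by
    have : (W.ι ≫ f) ⁻¹' {η} = W.ι ⁻¹' (f ⁻¹' {η}) := by
      ext; simp
    rw [this]
    exact hfin.preimage W.ι.isOpenEmbedding.injective.injOn)
  have hdisc := ((W.ι ≫ f) ∣_ V).isDiscrete_preimage_singleton ⟨η, hηV⟩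
  have hxV : f x ∈ V := by rw [hx]; exact hηV
  have hyV : f y ∈ V := by rw [hy]; exact hηV
  let x' : ↥((W.ι ≫ f) ⁻¹ᵁ V) := ⟨⟨x, hxW⟩, hxV⟩
  let y' : ↥((W.ι ≫ f) ⁻¹ᵁ V) := ⟨⟨y, hyW⟩, hyV⟩
  have hx' : ((W.ι ≫ f) ∣_ V) x' = ⟨η, hηV⟩ := by
    apply Subtype.ext
    rw [morphismRestrict_base_coe]
    exact hx
  have hy' : ((W.ι ≫ f) ∣_ V) y' = ⟨η, hηV⟩ := by
    apply Subtype.ext
    rw [morphismRestrict_base_coe]
    exact hy
  have hyx' : y' ⤳ x' := by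
    refine (Topology.IsInducing.specializes_iff
      (((W.ι ≫ f) ⁻¹ᵁ V).ι.isOpenEmbedding.isInducing)).mp ?_
    exact (Topology.IsInducing.specializes_iff (W.ι.isOpenEmbedding.isInducing)).mp hyx
  obtain ⟨u, hu, hu'⟩ := isDiscrete_iff_forall_mem_exists_isOpen.mp hdisc x' hx'
  have hxu : x' ∈ u := (hu'.symm.le (Set.mem_singleton x')).1
  have hyu : y' ∈ u := hyx'.mem_open hu hxu
  have : y' = x' := hu'.le ⟨hyu, hy'⟩
  exact congrArg (fun z => z.1.1) this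

/-- Main lemma, affine target. -/
theorem exists_isFinite_of_sep {X Y : Scheme.{u}} (f : X ⟶ Y) [LocallyOfFiniteType f]
    [CompactSpace X] [IsAffine Y] (η : Y) (hη : IsGen η) (hfin : (f ⁻¹' {η}).Finite)
    (hsep : ∀ x y : X, IsGen x → IsGen y → f x = η → f y = η → x ≠ y →
      ∃ P Q : Set X, IsOpen P ∧ IsOpen Q ∧ x ∈ P ∧ y ∈ Q ∧ Disjoint P Q) :
    ∃ V : Y.Opens, η ∈ V ∧ IsFinite (f ∣_ V) := by
  have hgen := isGen_of_mem_fiber f η hη hfin
  obtain ⟨U, hU, hfU⟩ := exists_isAffineOpen_of_separated (f ⁻¹' {η}) hfin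
    fun x hx y hy hxy => hsep x y (hgen x hx) (hgen y hy) hx hy hxy
  exact exists_isFinite_restrict_of_isAffineOpen f η hη hfin U hfU hU

/-- Main lemma. -/
theorem exists_isFinite_affine_of_sep {X Y : Scheme.{u}} (f : X ⟶ Y) [LocallyOfFiniteType f]
    [QuasiCompact f] (η : Y) (hη : IsGen η) (hfin : (f ⁻¹' {η}).Finite)
    (V₀ : Y.Opens) (hV₀ : IsAffineOpen V₀) (hηV₀ : η ∈ V₀)
    (hsep : ∀ x y : X, IsGen x → IsGen y → f x = η → f y = η → x ≠ y →
      ∃ P Q : Set X, IsOpen P ∧ IsOpen Q ∧ x ∈ P ∧ y ∈ Q ∧ Disjoint P Q) :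
    ∃ V : Y.Opens, IsAffineOpen V ∧ η ∈ V ∧ IsFinite (f ∣_ V) := by
  have : IsAffine V₀ := hV₀
  have : CompactSpace (f ⁻¹ᵁ V₀).toScheme := isCompact_iff_compactSpace.mp
    (f.isCompact_preimage hV₀.isCompact)
  obtain ⟨V, hηV, hV⟩ := exists_isFinite_of_sep (f ∣_ V₀) ⟨η, hηV₀⟩
    ((isGen_of_isOpenEmbedding V₀.ι.isOpenEmbedding _).mp hη) (by
      have : (f ∣_ V₀) ⁻¹' {⟨η, hηV₀⟩} = (f ⁻¹ᵁ V₀).ι ⁻¹' (f ⁻¹' {η}) := by
        ext z
        have h1 := morphismRestrict_base_coe f V₀ z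
        constructor
        · intro hz
          exact h1.symm.trans (congrArg Subtype.val hz)
        · intro hz
          exact Subtype.ext (h1.trans hz)
      rw [this]
      exact hfin.preimage (f ⁻¹ᵁ V₀).ι.isOpenEmbedding.injective.injOn) (by
      intro x y hx hy hxη hyη hxy
      obtain ⟨P, Q, hP, hQ, hxP, hyQ, hPQ⟩ := hsep x.1 y.1
        ((isGen_of_isOpenEmbedding (f ⁻¹ᵁ V₀).ι.isOpenEmbedding _).mpr hx)
        ((isGen_of_isOpenEmbedding (f ⁻¹ᵁ V₀).ι.isOpenEmbedding _).mpr hy)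
        (by rw [← morphismRestrict_base_coe, hxη])
        (by rw [← morphismRestrict_base_coe, hyη])
        (fun h => hxy (Subtype.ext h))
      exact ⟨_, _, hP.preimage continuous_subtype_val, hQ.preimage continuous_subtype_val, hxP, hyQ,
        hPQ.preimage _⟩)
  rw [MorphismProperty.arrow_mk_iso_iff @IsFinite (morphismRestrictRestrict f V₀ V)] at hV
  obtain ⟨V', hV', hηV', hle⟩ := exists_isAffineOpen_mem_and_subset (U := V₀.ι ''ᵁ V) (x := η)
    ⟨_, hηV, rfl⟩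
  exact ⟨V', hV', hηV', isFinite_restrict_of_le f hle hV⟩

end Groth.Agent.Smoothlim.GenFinSch
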