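import Groth.Agent.Smoothlim.PowGlue

/-!
# Ample invertible modules: the non-vanishing loci form a basis (Stacks 01Q3)
-/

set_option autoImplicit false
universe u
open CategoryTheory AlgebraicGeometry TensorProduct Opposite TopologicalSpace

namespace Groth.Agent.Smoothlim.AmpleBasis

open Groth.Agent.Ega4dA.GenSec Groth.Agent.Smoothlim.PowSec Groth.Agent.Smoothlim.PowGlue

variable {X : Scheme.{u}} {M N L : X.Modules} {U V W : X.Opens}

theorem resO_pow (h : V ≤ U) (a : Γ(X, U)) (k : ℕ) : resO X h (a ^ k) = (resO X h a) ^ k :=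
  map_pow (X.presheaf.map (homOfLE h).op).hom a k

theorem basicOpen_resO (h : V ≤ U) (a : Γ(X, U)) :
    X.basicOpen (resO X h a) = V ⊓ X.basicOpen a := X.basicOpen_res a (homOfLE h).op

theorem gl_inf_eq_basicOpen (s : Γ(M, ⊤)) {e : Γ(M, U)}
    (he : IsGen M U e) (a : Γ(X, U)) (ha : a • e = res M le_top s) :
    gl s ⊓ U = X.basicOpen a := by
  unfold gl
  exact genLocus_inf_eq_basicOpen _ he a (by rw [sec_homOfSec]; exact ha)

/-- Finitely many sections of one power `L^{⊗ D}`, `D > 0`, with affine non-vanishing loci covering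
`X`. -/
theorem exists_common (hA : CohB1.IsAmple L) :
    ∃ (ι : Type u) (_ : Finite ι) (D : ℕ) (_ : D ≠ 0) (s : ι → Γ(CohB1.tensorPow L D, ⊤)),
      (∀ i, IsAffineOpen (gl (s i))) ∧ ∀ x : X, ∃ i, x ∈ gl (s i) := by
  obtain ⟨hL, hc, h⟩ := hA
  choose n s hx haff using h
  have hs : ∀ x, gl (sec (s x)) = CohB1.genLocus _ (s x) := by
    intro x
    apply le_antisymm
    · rw [le_genLocus_iff, ← le_gl_iff]
    · rw [le_gl_iff, ← le_genLocus_iff]
  obtain ⟨t, ht⟩ := isCompact_univ.elim_finite_subcover (fun x : X => (gl (sec (s x)) : Set X))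
    (fun x => (gl (sec (s x))).isOpen) (fun x _ => Set.mem_iUnion.mpr ⟨x, by
      rw [hs]; exact hx x⟩)
  let D : ℕ := ∏ x ∈ t, (n x + 1)
  have hD : D ≠ 0 := Finset.prod_ne_zero_iff.mpr (fun x _ => Nat.succ_ne_zero _)
  have hdvd : ∀ x : t, ∃ k, D = (n x.1 + 1) * k := fun x => Finset.dvd_prod_of_mem _ x.2
  choose k hk using hdvd
  choose r hr using fun x : t => exists_isPow (U := ⊤) hL (sec (s x.1)) (k x) D (hk x)
  have hk0 : ∀ x, k x ≠ 0 := by
    intro x h0
    apply hD
    rw [hk x, h0, mul_zero]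
  have hgl : ∀ x : t, gl (r x) = CohB1.genLocus _ (s x.1) := fun x =>
    (gl_eq_of_isPow hL (hr x) (hk0 x)).trans (hs _)
  refine ⟨t, inferInstance, D, hD, r, ?_, ?_⟩
  · intro i
    rw [hgl]
    exact haff _
  · intro x
    obtain ⟨y, hy, hxy⟩ := Set.mem_iUnion₂.mp (ht (Set.mem_univ x))
    refine ⟨⟨y, hy⟩, ?_⟩
    rw [hgl, ← hs]
    exact hxy

/-- Powers of functions kill what vanishes on `D(a)`, for affine opens. -/
theorem exists_pow_mul_eq_zero (hU : IsAffineOpen U) (a x : Γ(X, U))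
    (h : resO X (X.basicOpen_le a) x = 0) : ∃ m : ℕ, a ^ m * x = 0 :=
  exists_pow_mul_eq_zero_of_res_basicOpen_eq_zero_of_isAffineOpen X hU x a h

theorem exists_eq_pow_mul (hU : IsAffineOpen U) (a : Γ(X, U)) (x : Γ(X, X.basicOpen a)) :
    ∃ (n : ℕ) (y : Γ(X, U)), resO X (X.basicOpen_le a) y =
      (resO X (X.basicOpen_le a) a) ^ n * x := 
  exists_eq_pow_mul_of_isAffineOpen X U hU a x

/-- Main point of 01Q3: on the affine locus `X_{s i₀}` of an ample `L`, for each function `f`
some multiple of a power of the section extends, and its non-vanishing locus is `D(f)`. -/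
theorem exists_section_gl_eq (hL : PicF.IsInvertible L) {ι : Type u} [Finite ι] {D : ℕ}
    (hD : D ≠ 0) (s : ι → Γ(CohB1.tensorPow L D, ⊤)) (haff : ∀ i, IsAffineOpen (gl (s i)))
    (hcov : ∀ x : X, ∃ i, x ∈ gl (s i)) (i₀ : ι) (f : Γ(X, gl (s i₀))) :
    ∃ (n : ℕ) (_ : n ≠ 0) (t : Γ(CohB1.tensorPow L n, ⊤)), gl t = X.basicOpen f := by
  classical
  have hgen : ∀ i, IsGen _ (gl (s i)) (res _ le_top (s i)) := fun i => (le_gl_iff _ _).mp le_rfl
  -- coefficients of `s i₀`
  choose a ha using fun i => (hgen i).exists_eq' (res _ le_top (s i₀))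
  have hDa : ∀ i, gl (s i₀) ⊓ gl (s i) = X.basicOpen (a i) := fun i =>
    gl_inf_eq_basicOpen (s i₀) (hgen i) (a i) (ha i)
  have hDa' : ∀ i, X.basicOpen (a i) ≤ gl (s i₀) := fun i => (hDa i).symm.le.trans inf_le_left
  -- extend `a^k f`
  have h1 : ∀ i, ∃ (n : ℕ) (y : Γ(X, gl (s i))), resO X (X.basicOpen_le (a i)) y =
      (resO X (X.basicOpen_le (a i)) (a i)) ^ n * resO X (hDa' i) f := fun i =>
    exists_eq_pow_mul (haff i) (a i) (resO X (hDa' i) f)
  choose n₁ y₁ hy₁ using h1
  obtain ⟨k, hk⟩ := Finite.exists_le n₁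
  obtain ⟨g, hg⟩ : ∃ g : ∀ i, Γ(X, gl (s i)), ∀ i, resO X (X.basicOpen_le (a i)) (g i) =
      (resO X (X.basicOpen_le (a i)) (a i)) ^ k * resO X (hDa' i) f := by
    refine ⟨fun i => a i ^ (k - n₁ i) * y₁ i, fun i => ?_⟩
    rw [resO_mul, resO_pow, hy₁, ← mul_assoc, ← pow_add, Nat.sub_add_cancel (hk i)]
  -- transition functions
  choose b' hb' using fun i j => (hgen j).exists_eq' (res _ le_top (s i))
  have hVb : ∀ i j, gl (s i) ⊓ gl (s j) = X.basicOpen (b' i j) := fun i j =>
    gl_inf_eq_basicOpen (s i) (hgen j) (b' i j) (hb' i j)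
  have hVaff : ∀ i j, IsAffineOpen (gl (s i) ⊓ gl (s j)) := fun i j => by
    rw [hVb]; exact (haff j).basicOpen _
  let b : ∀ i j, Γ(X, gl (s i) ⊓ gl (s j)) := fun i j => resO X inf_le_right (b' i j)
  have hb : ∀ i j, b i j • res _ (le_top : gl (s i) ⊓ gl (s j) ≤ ⊤) (s j) =
      res _ le_top (s i) := by
    intro i j
    have := congrArg (res _ (inf_le_right : gl (s i) ⊓ gl (s j) ≤ gl (s j))) (hb' i j)
    rw [res_smul, res_res, res_res] at this
    exact this
  have hab : ∀ i j, resO X (inf_le_left : gl (s i) ⊓ gl (s j) ≤ _) (a i) * b i j =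
      resO X (inf_le_right : gl (s i) ⊓ gl (s j) ≤ _) (a j) := by
    intro i j
    have hgj := (hgen j).mono (inf_le_right : gl (s i) ⊓ gl (s j) ≤ _)
    rw [res_res] at hgj
    apply hgj.injective'
    rw [mul_smul, hb]
    have e1 := congrArg (res _ (inf_le_left : gl (s i) ⊓ gl (s j) ≤ gl (s i))) (ha i)
    have e2 := congrArg (res _ (inf_le_right : gl (s i) ⊓ gl (s j) ≤ gl (s j))) (ha j)
    rw [res_smul, res_res, res_res] at e1 e2
    rw [e1, e2]
  -- the obstruction to gluing
  let hh : ∀ i j, Γ(X, gl (s i) ⊓ gl (s j)) := fun i j =>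
    resO X inf_le_left (g i) * b i j ^ k - resO X inf_le_right (g j)
  have hh0 : ∀ i j, resO X (X.basicOpen_le (resO X (inf_le_right : gl (s i) ⊓ gl (s j) ≤ _) (a j)))
      (hh i j) = 0 := by
    intro i j
    set aj := resO X (inf_le_right : gl (s i) ⊓ gl (s j) ≤ _) (a j) with haj
    have hle : X.basicOpen aj ≤ X.basicOpen (a j) := by
      rw [haj, basicOpen_resO]; exact inf_le_right
    have hle' : X.basicOpen aj ≤ X.basicOpen (a i) := by
      rw [← hDa i]
      exact le_inf (hle.trans (hDa' j)) ((X.basicOpen_le aj).trans inf_le_left)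
    have e1 := congrArg (resO X hle') (hg i)
    have e2 := congrArg (resO X hle) (hg j)
    simp only [resO_mul, resO_pow, resO_resO] at e1 e2
    have e3 := congrArg (resO X (X.basicOpen_le aj)) (hab i j)
    simp only [resO_mul, resO_resO] at e3
    simp only [hh, resO_sub, resO_mul, resO_pow, resO_resO]
    rw [e1, e2, ← e3, mul_pow]
    ring
  choose m₁ hm₁ using fun i j => exists_pow_mul_eq_zero (hVaff i j) _ _ (hh0 i j)
  obtain ⟨m', hm'⟩ := Finite.exists_le (fun p : ι × ι => m₁ p.1 p.2)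
  let m := m' + 1
  have hm : ∀ i j, (resO X (inf_le_right : gl (s i) ⊓ gl (s j) ≤ _) (a j)) ^ m * hh i j = 0 := by
    intro i j
    have hle : m₁ i j ≤ m := (hm' (i, j)).trans (Nat.le_succ _)
    rw [← Nat.sub_add_cancel hle, pow_add, mul_assoc, hm₁, mul_zero]
  -- powers of the sections
  choose σ hσ using fun i => exists_isPow (U := ⊤) hL (s i) (k + m) (D * (k + m)) rfl
  obtain ⟨t, ht⟩ := exists_glue (CohB1.tensorPow L (D * (k + m))) (U := ⊤) (fun i => gl (s i))
    (fun i => le_top) (fun x _ => Opens.mem_iSup.mpr (hcov x))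
    (fun i => (a i ^ m * g i) • res _ le_top (σ i)) (by
      intro i j
      have e0 : res _ (le_top : gl (s i) ⊓ gl (s j) ≤ ⊤) (σ i) =
          b i j ^ (k + m) • res _ (le_top : gl (s i) ⊓ gl (s j) ≤ ⊤) (σ j) := by
        have h1 := (hσ i).res (le_top : gl (s i) ⊓ gl (s j) ≤ ⊤)
        have h2 := ((hσ j).res (le_top : gl (s i) ⊓ gl (s j) ≤ ⊤)).smul (b i j)
        rw [hb] at h2
        exact h1.unique hL h2
      rw [res_smul, res_smul, res_res, res_res, e0, smul_smul]
      congr 1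
      have h3 := hm i j
      simp only [hh] at h3
      rw [mul_sub, sub_eq_zero] at h3
      rw [resO_mul, resO_mul, resO_pow, resO_pow, ← h3, ← hab i j]
      ring)
  have hglt : ∀ i, gl t ⊓ gl (s i) = X.basicOpen (a i ^ m * g i) := by
    intro i
    refine gl_inf_eq_basicOpen t ?_ _ (ht i).symm
    exact ((hσ i).res (le_top : gl (s i) ≤ ⊤)).isGen hL (hgen i)
  have ha0 : a i₀ = 1 := (hgen i₀).injective' ((ha i₀).trans (one_smul _ _).symm)
  have hg0 : g i₀ = f := by
    have := hg i₀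
    have htop : gl (s i₀) ≤ X.basicOpen (a i₀) := by rw [← hDa i₀]; simp
    have e1 := congrArg (resO X htop) this
    simp only [resO_resO, resO_self, ha0, resO_one, one_pow, one_mul] at e1
    exact e1
  have key : gl t = X.basicOpen f := by
    apply le_antisymm
    · intro x hx
      obtain ⟨i, hi⟩ := hcov x
      have hx1 : x ∈ X.basicOpen (a i ^ m * g i) := by
        rw [← hglt i]; exact ⟨hx, hi⟩
      have hx2 : x ∈ X.basicOpen (a i) := by
        rw [Scheme.basicOpen_mul] at hx1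
        have h3 := hx1.1
        rw [Scheme.basicOpen_pow] at h3
        · exact h3
        · exact Nat.succ_pos _
      have hx3 : x ∈ gl t ⊓ gl (s i₀) := ⟨hx, hDa' i hx2⟩
      rw [hglt i₀, ha0, one_pow, one_mul, hg0] at hx3
      exact hx3
    · have := hglt i₀
      rw [ha0, one_pow, one_mul, hg0] at this
      rw [← this]
      exact inf_le_left
  exact ⟨D * (k + m), Nat.mul_ne_zero hD (by omega), t, key⟩

end Groth.Agent.Smoothlim.AmpleBasis
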