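import Groth.Agent.Smoothlim.SmallFP
import Groth.Agent.Smoothlim.FPMod
import Groth.Agent.CohqB.FiniteType2
import Groth.Agent.CohqB.QC2

/-!
# Finitely presented modules on a scheme are essentially small
-/

set_option autoImplicit false
universe u

open CategoryTheory CategoryTheory.Limits AlgebraicGeometry Opposite TopologicalSpace
open Groth.Agent.Fdesc Groth.Agent.Fdesc.LocGen

namespace Groth.Agent.Smoothlim.FPSmall

variable {X : Scheme.{u}}

theorem lfg_of_isFT (M : X.Modules) (hq : Coh.IsQCoh M) (h : CohB1.IsFT M) : SmallFP.LFG M := by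
  intro x
  obtain ⟨_, ⟨U, hU, rfl⟩, hxU, -⟩ := X.isBasis_affineOpens.exists_subset_of_mem_open
    (Set.mem_univ x) isOpen_univ
  replace hU : IsAffineOpen U := hU
  have hfin : Module.Finite Γ(X, U) Γ(M, U) :=
    Groth.Agent.CohqB.FiniteType2.finite_sections_of_isFT M h hU
  obtain ⟨n, e, he⟩ := Module.Finite.exists_fin (R := Γ(X, U)) (M := Γ(M, U))
  refine ⟨U, n, e, hxU, fun V hV s y hy => ?_⟩
  obtain ⟨f, hf, hyf⟩ := hU.exists_basicOpen_le ⟨y, hy⟩ (hV hy)
  have hloc := Groth.Agent.CohqB.QC2.loc_of_isQuasicoherent M hU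
  obtain ⟨k, t, ht⟩ := hloc.exists_lift f (res M hf s)
  replace ht : res M (X.basicOpen_le f) t = ores (X.basicOpen_le f) f ^ k • res M hf s := ht
  have hu : IsUnit (ores (X.basicOpen_le f) f ^ k) :=
    (RingedSpace.isUnit_res_basicOpen X.toRingedSpace f).pow k
  obtain ⟨g, hg⟩ := hu.exists_left_inv
  have hmem : t ∈ Submodule.span Γ(X, U) (Set.range e) := by rw [he]; trivial
  obtain ⟨b, hb⟩ := (Submodule.mem_span_range_iff_exists_fun _).mp hmem
  refine ⟨X.basicOpen f, hf, X.basicOpen_le f, fun i => g * ores (X.basicOpen_le f) (b i), hyf, ?_⟩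
  have h1 : g • res M (X.basicOpen_le f) t = res M hf s := by
    rw [ht, smul_smul, hg, one_smul]
  rw [← h1, ← hb, map_sum, Finset.smul_sum]
  exact Finset.sum_congr rfl fun i _ => by rw [res_smul, smul_smul]

theorem lfg_of_isFP (M : X.Modules) (h : CohB1.IsFP M) : SmallFP.LFG M := by
  have h1 : SheafOfModules.IsFinitePresentation (R := X.ringCatSheaf) M := h
  exact lfg_of_isFT M inferInstance inferInstance

/-- small set of representatives of the finitely presented modules -/
theorem exists_small_isFP (X : Scheme.{u}) :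
    ∃ (J : Type u) (obj : J → X.Modules), (∀ j, CohB1.IsFP (obj j)) ∧
      ∀ M, CohB1.IsFP M → ∃ j, Nonempty (obj j ≅ M) :=
  SmallFP.exists_small _ lfg_of_isFP

/-- small set of representatives of the coherent (quasi-coherent of finite type) modules -/
theorem exists_small_isCoh (X : Scheme.{u}) :
    ∃ (J : Type u) (obj : J → X.Modules), (∀ j, Coh.IsCoh (obj j)) ∧
      ∀ M, Coh.IsCoh M → ∃ j, Nonempty (obj j ≅ M) :=
  SmallFP.exists_small _ fun M hM => lfg_of_isFT M hM.1 hM.2

end Groth.Agent.Smoothlim.FPSmall
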