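import Groth.Agent.Fdesc.LocGen
import Mathlib.CategoryTheory.Filtered.Basic

/-!
# A criterion for a cocone over a filtered diagram of O_X-modules to be a colimit

If every section of the point of the cocone comes locally from some stage, and every section of a
stage which dies in the point dies locally at a later stage, then the cocone is a colimit cocone.
-/

set_option autoImplicit false
universe u v w

open CategoryTheory CategoryTheory.Limits AlgebraicGeometry Opposite TopologicalSpace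
open Groth.Agent.Fdesc Groth.Agent.Fdesc.LocGen

namespace Groth.Agent.Smoothlim.FilteredColim

variable {X : Scheme.{u}} {J : Type w} [Category.{v} J] {D : J ⥤ X.Modules}

/-- every section of the point comes locally from a stage -/
def LocSurj (c : Cocone D) : Prop :=
  ∀ (U : X.Opens) (s : Γ(c.pt, U)) (x : X), x ∈ U → ∃ (V : X.Opens) (h : V ≤ U), x ∈ V ∧
    ∃ (j : J) (g : Γ(D.obj j, V)), (c.ι.app j).app V g = res c.pt h s

/-- every section of a stage dying in the point dies locally at a later stage -/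
def LocInj (c : Cocone D) : Prop :=
  ∀ (j : J) (U : X.Opens) (g : Γ(D.obj j, U)), (c.ι.app j).app U g = 0 → ∀ x : X, x ∈ U →
    ∃ (V : X.Opens) (h : V ≤ U), x ∈ V ∧ ∃ (j' : J) (f : j ⟶ j'),
      (D.map f).app V (res (D.obj j) h g) = 0

/-- the graph relation -/
def Rel (c s : Cocone D) (U : X.Opens) (a : Γ(c.pt, U)) (b : Γ(s.pt, U)) : Prop :=
  ∀ x : X, x ∈ U → ∃ (V : X.Opens) (h : V ≤ U), x ∈ V ∧ ∃ (j : J) (g : Γ(D.obj j, V)),
    (c.ι.app j).app V g = res c.pt h a ∧ (s.ι.app j).app V g = res s.pt h b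

variable {c s : Cocone D} {U V : X.Opens}

lemma cocone_w (c : Cocone D) {j j' : J} (f : j ⟶ j') (U : X.Opens) (g : Γ(D.obj j, U)) :
    (c.ι.app j').app U ((D.map f).app U g) = (c.ι.app j).app U g := by
  rw [← c.w f]
  rfl

lemma Rel.res {a : Γ(c.pt, U)} {b : Γ(s.pt, U)} (h : Rel c s U a b) (hV : V ≤ U) :
    Rel c s V (res c.pt hV a) (res s.pt hV b) := by
  intro x hx
  obtain ⟨W, hW, hxW, j, g, h1, h2⟩ := h x (hV hx)
  refine ⟨W ⊓ V, inf_le_right, ⟨hxW, hx⟩, j, LocGen.res _ inf_le_left g, ?_, ?_⟩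
  · rw [app_res, h1]; simp
  · rw [app_res, h2]; simp

lemma Rel.smul {a : Γ(c.pt, U)} {b : Γ(s.pt, U)} (h : Rel c s U a b) (r : Γ(X, U)) :
    Rel c s U (r • a) (r • b) := by
  intro x hx
  obtain ⟨W, hW, hxW, j, g, h1, h2⟩ := h x hx
  refine ⟨W, hW, hxW, j, ores hW r • g, ?_, ?_⟩
  · rw [Scheme.Modules.Hom.app_smul, h1, res_smul]
  · rw [Scheme.Modules.Hom.app_smul, h2, res_smul]

lemma Rel.add [IsFiltered J] {a a' : Γ(c.pt, U)} {b b' : Γ(s.pt, U)} (h : Rel c s U a b)
    (h' : Rel c s U a' b') : Rel c s U (a + a') (b + b') := by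
  intro x hx
  obtain ⟨W, hW, hxW, j, g, h1, h2⟩ := h x hx
  obtain ⟨W', hW', hxW', j', g', h1', h2'⟩ := h' x hx
  refine ⟨W ⊓ W', inf_le_left.trans hW, ⟨hxW, hxW'⟩, IsFiltered.max j j',
    (D.map (IsFiltered.leftToMax j j')).app _ (LocGen.res _ inf_le_left g) +
    (D.map (IsFiltered.rightToMax j j')).app _ (LocGen.res _ inf_le_right g'), ?_, ?_⟩
  · rw [map_add, cocone_w, cocone_w, app_res, app_res, h1, h1', map_add]; simp
  · rw [map_add, cocone_w, cocone_w, app_res, app_res, h2, h2', map_add]; simp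

lemma Rel.neg {a : Γ(c.pt, U)} {b : Γ(s.pt, U)} (h : Rel c s U a b) :
    Rel c s U (-a) (-b) := by
  have := h.smul (-1)
  simpa using this

lemma Rel.eq_zero (hinj : LocInj c) {b : Γ(s.pt, U)} (h : Rel c s U 0 b) : b = 0 := by
  have key : ∀ x : U, ∃ (V : X.Opens) (h : V ≤ U), x.1 ∈ V ∧ LocGen.res s.pt h b = 0 := by
    intro x
    obtain ⟨W, hW, hxW, j, g, h1, h2⟩ := h x.1 x.2
    rw [map_zero] at h1
    obtain ⟨V, hV, hxV, j', f, hf⟩ := hinj j W g h1 x.1 hxW
    refine ⟨V, hV.trans hW, hxV, ?_⟩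
    have h3 := congr(LocGen.res s.pt hV $h2)
    rw [res_res, ← app_res, ← cocone_w s f, hf, map_zero] at h3
    exact h3.symm
  choose V hV hxV h0 using key
  refine res_ext s.pt V hV (fun x hx => Opens.mem_iSup.mpr ⟨⟨x, hx⟩, hxV ⟨x, hx⟩⟩) fun x => ?_
  rw [h0, map_zero]

lemma Rel.unique [IsFiltered J] (hinj : LocInj c) {a : Γ(c.pt, U)} {b b' : Γ(s.pt, U)}
    (h : Rel c s U a b) (h' : Rel c s U a b') : b = b' := by
  have := (h.add h'.neg)
  rw [add_neg_cancel] at this
  exact add_neg_eq_zero.mp (this.eq_zero hinj)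

lemma exists_rel [IsFiltered J] (hsurj : LocSurj c) (hinj : LocInj c) (s : Cocone D)
    (a : Γ(c.pt, U)) : ∃ b : Γ(s.pt, U), Rel c s U a b := by
  choose V hV hxV j g hg using fun x : U => hsurj U a x.1 x.2
  have hrel : ∀ x, Rel c s (V x) (LocGen.res c.pt (hV x) a) ((s.ι.app (j x)).app (V x) (g x)) := by
    intro x y hy
    exact ⟨V x, le_rfl, hy, j x, g x, by rw [hg]; simp, by simp⟩
  obtain ⟨b, hb⟩ := res_glue s.pt V hV
    (fun x hx => Opens.mem_iSup.mpr ⟨⟨x, hx⟩, hxV ⟨x, hx⟩⟩)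
    (fun x => (s.ι.app (j x)).app (V x) (g x)) (by
      intro x y
      have h1 := (hrel x).res (inf_le_left : V x ⊓ V y ≤ V x)
      have h2 := (hrel y).res (inf_le_right : V x ⊓ V y ≤ V y)
      rw [res_res] at h1 h2
      exact h1.unique hinj h2)
  refine ⟨b, fun x hx => ⟨V ⟨x, hx⟩, hV _, hxV _, j _, g _, hg _, (hb _).symm⟩⟩

/-- the induced map on sections -/
noncomputable def descFun [IsFiltered J] (hsurj : LocSurj c) (hinj : LocInj c) (s : Cocone D)
    (U : X.Opens) (a : Γ(c.pt, U)) : Γ(s.pt, U) := (exists_rel hsurj hinj s a).choose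

lemma descFun_rel [IsFiltered J] (hsurj : LocSurj c) (hinj : LocInj c) (s : Cocone D)
    (U : X.Opens) (a : Γ(c.pt, U)) : Rel c s U a (descFun hsurj hinj s U a) :=
  (exists_rel hsurj hinj s a).choose_spec

/-- the induced map -/
noncomputable def desc [IsFiltered J] (hsurj : LocSurj c) (hinj : LocInj c) (s : Cocone D) :
    c.pt ⟶ s.pt :=
  mkHom (fun U => AddMonoidHom.mk' (descFun hsurj hinj s U) fun a b =>
      (descFun_rel hsurj hinj s U (a + b)).unique hinj
        ((descFun_rel hsurj hinj s U a).add (descFun_rel hsurj hinj s U b)))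
    (fun U r a => (descFun_rel hsurj hinj s U (r • a)).unique hinj
      ((descFun_rel hsurj hinj s U a).smul r))
    (fun U V h a => (descFun_rel hsurj hinj s V (LocGen.res _ h a)).unique hinj
      ((descFun_rel hsurj hinj s U a).res h))

/-- The criterion. -/
theorem nonempty_isColimit [IsFiltered J] (hsurj : LocSurj c) (hinj : LocInj c) :
    Nonempty (IsColimit c) := by
  refine ⟨{ desc := desc hsurj hinj, fac := ?_, uniq := ?_ }⟩
  · intro s j
    apply Scheme.Modules.hom_ext
    intro U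
    ext g
    refine (descFun_rel hsurj hinj s U ((c.ι.app j).app U g)).unique hinj ?_
    intro x hx
    exact ⟨U, le_rfl, hx, j, g, by simp, by simp⟩
  · intro s m hm
    apply Scheme.Modules.hom_ext
    intro U
    ext a
    refine Rel.unique hinj (c := c) (s := s) (a := a) ?_ (descFun_rel hsurj hinj s U a)
    intro x hx
    obtain ⟨V, hV, hxV, j, g, hg⟩ := hsurj U a x hx
    refine ⟨V, hV, hxV, j, g, hg, ?_⟩
    rw [← hm j]
    change m.app V ((c.ι.app j).app V g) = _
    rw [hg, app_res]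

end Groth.Agent.Smoothlim.FilteredColim
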