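import Mathlib.Algebra.Category.ModuleCat.ChangeOfRings
import Mathlib.RingTheory.Kaehler.Basic
set_option autoImplicit false
universe u
open CategoryTheory TensorProduct ChangeOfRings

namespace Groth.Agent.Smoothlim.ExtCot

variable {P A : Type u} [CommRing P] [CommRing A] (f : P →+* A) (hf : Function.Surjective f)
  (N : Type u) [AddCommGroup N] [Module A N] (g : RingHom.ker f →+ N)
  (hg : ∀ (p : P) (x : RingHom.ker f), g (p • x) = f p • g x)

/-- the corresponding linear map to the restriction of scalars -/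
noncomputable def toRes : ModuleCat.of P (RingHom.ker f) ⟶
    (ModuleCat.restrictScalars f).obj (ModuleCat.of A N) :=
  ModuleCat.ofHom
    (Y := (ModuleCat.restrictScalars f).obj (ModuleCat.of A N))
    { toFun := g
      map_add' := g.map_add
      map_smul' := hg }

noncomputable def fwd : (ModuleCat.extendScalars f).obj (ModuleCat.of P (RingHom.ker f)) ⟶
    ModuleCat.of A N :=
  ((ModuleCat.extendRestrictScalarsAdj f).homEquiv _ _).symm (toRes f N g hg)

/-- the class `1 ⊗ x` -/
noncomputable def one (x : RingHom.ker f) :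
    (ModuleCat.extendScalars f).obj (ModuleCat.of P (RingHom.ker f)) :=
  (1 : A) ⊗ₜ[P, f] (x : ModuleCat.of P (RingHom.ker f))

lemma fwd_one (x : RingHom.ker f) : (fwd f N g hg).hom (one f x) = g x := by
  have := ModuleCat.extendRestrictScalarsAdj_homEquiv_apply (f := f)
    (fwd f N g hg) x
  refine this.symm.trans ?_
  rw [fwd, Equiv.apply_symm_apply]
  rfl

lemma one_add (x y : RingHom.ker f) : one f (x + y) = one f x + one f y :=
  TensorProduct.tmul_add _ _ _

lemma one_smul (p : P) (x : RingHom.ker f) : one f (p • x) = f p • one f x := by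
  let M : ModuleCat P := ModuleCat.of P (RingHom.ker f)
  let A' : ModuleCat P := (ModuleCat.restrictScalars f).obj (ModuleCat.of A A)
  let a : A' := (1 : A)
  let x' : M := x
  exact (TensorProduct.smul_tmul (R := P) (R' := P) (M := A') (N := M) p a x').symm

include hf in
lemma exists_rep (z : (ModuleCat.extendScalars f).obj (ModuleCat.of P (RingHom.ker f))) :
    ∃ x : RingHom.ker f, z = one f x := by
  induction z using TensorProduct.induction_on with
  | zero => exact ⟨0, (TensorProduct.tmul_zero _ _).symm⟩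
  | tmul a x =>
    obtain ⟨p, hp⟩ := hf a
    refine ⟨p • x, ?_⟩
    rw [one_smul, hp]
    have h1 := ModuleCat.ExtendScalars.smul_tmul (f := f) a (1 : A) x
    have h2 : a = (show A from a) * 1 := (mul_one (show A from a)).symm
    refine Eq.trans ?_ h1.symm
    exact congrArg (fun t : A => t ⊗ₜ[P, f] x) h2
  | add z₁ z₂ h₁ h₂ =>
    obtain ⟨x, rfl⟩ := h₁
    obtain ⟨y, rfl⟩ := h₂
    exact ⟨x + y, (one_add f x y).symm⟩

lemma one_eq_zero_aux (y : P) (hy : y ∈ (RingHom.ker f) ^ 2) :
    ∀ hy' : y ∈ RingHom.ker f, one f ⟨y, hy'⟩ = 0 := by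
  rw [pow_two] at hy
  induction hy using Submodule.mul_induction_on' with
  | mem_mul_mem a ha b hb =>
    intro hy'
    have h1 : one f ⟨a * b, hy'⟩ = f a • one f ⟨b, hb⟩ := by
      rw [← one_smul]
      rfl
    have h2 : f a = 0 := ha
    rw [h1, h2, zero_smul]
  | add a ha b hb h1 h2 =>
    intro hy'
    have ha' : a ∈ RingHom.ker f := Ideal.mul_le_right ha
    have hb' : b ∈ RingHom.ker f := Ideal.mul_le_right hb
    have h3 : one f ⟨a + b, hy'⟩ = one f ⟨a, ha'⟩ + one f ⟨b, hb'⟩ := by
      rw [← one_add]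
      rfl
    rw [h3, h1 ha', h2 hb', add_zero]

lemma one_eq_zero (x : RingHom.ker f) (hx : (x : P) ∈ (RingHom.ker f) ^ 2) : one f x = 0 :=
  one_eq_zero_aux f x hx x.2

include hf in
lemma fwd_bijective (hsurj : Function.Surjective g)
    (hker : ∀ x : RingHom.ker f, g x = 0 → (x : P) ∈ (RingHom.ker f) ^ 2) :
    Function.Bijective (fwd f N g hg).hom := by
  constructor
  · rw [injective_iff_map_eq_zero]
    intro z hz
    obtain ⟨x, rfl⟩ := exists_rep f hf z
    rw [fwd_one] at hz
    exact one_eq_zero f x (hker x hz)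
  · intro n
    obtain ⟨x, rfl⟩ := hsurj n
    exact ⟨one f x, fwd_one ..⟩

noncomputable def extIso (hsurj : Function.Surjective g)
    (hker : ∀ x : RingHom.ker f, g x = 0 → (x : P) ∈ (RingHom.ker f) ^ 2) :
    (ModuleCat.extendScalars f).obj (ModuleCat.of P (RingHom.ker f)) ≅ ModuleCat.of A N :=
  haveI : IsIso (fwd f N g hg) := by
    rw [ConcreteCategory.isIso_iff_bijective]
    exact fwd_bijective f hf N g hg hsurj hker
  asIso (fwd f N g hg)

end Groth.Agent.Smoothlim.ExtCot
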