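import Groth.Agent.Smoothlim.OmegaAffine
import Groth.Agent.Smoothlim.ExtCot

/-! `Omega.sheaf` of a morphism of affine schemes is the tilde of the Kähler differentials. -/

set_option autoImplicit false
universe u
open CategoryTheory AlgebraicGeometry Limits TopologicalSpace TensorProduct

namespace Groth.Agent.Smoothlim.OmegaSpec
open Groth.Agent.Smoothlim.ModKer Groth.Agent.Smoothlim.TildePull
open Groth.Agent.Smoothlim.ConormalRes Groth.Agent.Smoothlim.OmegaAffine

/-- The conormal module of `Spec.map φ`. -/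
noncomputable def conormalSpecIso {A B : CommRingCat.{u}} (φ : A ⟶ B) :
    Omega.conormal (Spec.map φ) ≅
      tilde ((ModuleCat.extendScalars φ.hom).obj (ModuleCat.of A (RingHom.ker φ.hom))) :=
  (Scheme.Modules.pullback (Spec.map φ)).mapIso
      (idealModKerIso (Spec.map φ) ≪≫ (kernelTildeIso φ).symm) ≪≫
    (pullTildeIso φ).app (ModuleCat.of A (RingHom.ker φ.hom))

section

variable (R A : Type u) [CommRing R] [CommRing A] [Algebra R A]

/-- multiplication as a morphism -/
noncomputable def mulHom : CommRingCat.of (A ⊗[R] A) ⟶ CommRingCat.of A :=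
  CommRingCat.ofHom (Algebra.TensorProduct.lmul' (S := A) R).toRingHom

lemma mulHom_apply (p : A ⊗[R] A) :
    (mulHom R A).hom p = Algebra.TensorProduct.lmul' (S := A) R p := rfl

lemma smul_kaehler (p : A ⊗[R] A) (ω : Ω[A⁄R]) :
    p • ω = (Algebra.TensorProduct.lmul' (S := A) R p) • ω := by
  have h1 : p - (Algebra.TensorProduct.lmul' (S := A) R p) ⊗ₜ[R] (1 : A) ∈
      KaehlerDifferential.ideal R A := by
    simp [KaehlerDifferential.ideal, RingHom.mem_ker]
  obtain ⟨x, rfl⟩ := KaehlerDifferential.fromIdeal_surjective R A ω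
  have h2 : (p - (Algebra.TensorProduct.lmul' (S := A) R p) ⊗ₜ[R] (1 : A)) •
      KaehlerDifferential.fromIdeal R A x = 0 := by
    rw [← map_smul]
    refine (Ideal.toCotangent_eq_zero _ _).mpr ?_
    rw [pow_two]
    exact Ideal.mul_mem_mul h1 x.2
  rw [sub_smul, sub_eq_zero] at h2
  rw [h2]
  exact algebraMap_smul (A ⊗[R] A) (Algebra.TensorProduct.lmul' (S := A) R p) _

noncomputable def extKaehlerIso :
    (ModuleCat.extendScalars (mulHom R A).hom).obj
      (ModuleCat.of (A ⊗[R] A) (RingHom.ker (mulHom R A).hom)) ≅ ModuleCat.of A (Ω[A⁄R]) :=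
  ExtCot.extIso (mulHom R A).hom
    (fun a => ⟨a ⊗ₜ 1, by rw [mulHom_apply]; simp⟩)
    (Ω[A⁄R]) (KaehlerDifferential.fromIdeal R A).toAddMonoidHom
    (fun p x => by
      rw [mulHom_apply]
      refine ((KaehlerDifferential.fromIdeal R A).map_smul p x).trans ?_
      exact smul_kaehler R A p _)
    (KaehlerDifferential.fromIdeal_surjective R A)
    (fun x hx => (Ideal.toCotangent_eq_zero _ _).mp hx)

/-- `Omega.sheaf` of `Spec A ⟶ Spec R` as a conormal module of `Spec A ⟶ Spec (A ⊗ A)`. -/
noncomputable def omegaConormalIso :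
    Omega.sheaf (Spec.map (CommRingCat.ofHom (algebraMap R A))) ≅
      Omega.conormal (Spec.map (mulHom R A)) := by
  let f := Spec.map (CommRingCat.ofHom (algebraMap R A))
  let e := pullbackSpecIso R A A
  have w : Spec.map (mulHom R A) ≫ e.inv = 𝟙 _ ≫ pullback.diagonal f := by
    apply pullback.hom_ext
    · simp only [Category.assoc, e, f, pullback.diagonal_fst, pullbackSpecIso_inv_fst,
        Category.comp_id]
      rw [← Spec.map_comp, ← Spec.map_id]
      congr 1
      ext a
      change Algebra.TensorProduct.lmul' R (a ⊗ₜ[R] (1 : A)) = a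
      simp
    · simp only [Category.assoc, e, f, pullback.diagonal_snd, pullbackSpecIso_inv_snd,
        Category.comp_id]
      rw [← Spec.map_comp, ← Spec.map_id]
      congr 1
      ext a
      change Algebra.TensorProduct.lmul' R ((1 : A) ⊗ₜ[R] a) = a
      simp
  have H : IsPullback (Spec.map (mulHom R A)) (𝟙 _) e.inv (pullback.diagonal f) :=
    IsPullback.of_vert_isIso ⟨w⟩
  exact (Scheme.Modules.pullbackId _).symm.app _ ≪≫ conormalIso H

noncomputable def omegaSpecIso :
    Omega.sheaf (Spec.map (CommRingCat.ofHom (algebraMap R A))) ≅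
      tilde (R := CommRingCat.of A) (ModuleCat.of A (Ω[A⁄R])) :=
  omegaConormalIso R A ≪≫ conormalSpecIso (mulHom R A) ≪≫
    (tilde.functor (CommRingCat.of A)).mapIso (extKaehlerIso R A)

end

end Groth.Agent.Smoothlim.OmegaSpec
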