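import Groth.Agent.Smoothlim.FlatColim
import Mathlib.RingTheory.Finiteness.ModuleFinitePresentation
import Mathlib.Algebra.TrivSqZeroExt.Basic
import Mathlib.LinearAlgebra.TensorProduct.Prod

/-!
# Flatness of finitely presented modules descends along directed colimits of rings

The module case is reduced to the algebra case by square-zero extensions.
-/

set_option autoImplicit false
universe u

open CategoryTheory CategoryTheory.Limits TensorProduct

namespace Groth.Agent.Smoothlim.FlatColimMod

/-- `M` f.p. over the f.p. `B`-algebra `C`: there is a f.p. `B`-algebra `S` with `S ≃ P × M` as a `B`-module, `P` free. -/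
theorem exists_sqZero {B C M : Type u} [CommRing B] [CommRing C] [Algebra B C]
    [Algebra.FinitePresentation B C] [AddCommGroup M] [Module B M] [Module C M] [IsScalarTower B C M]
    [Module.FinitePresentation C M] :
    ∃ (P S : Type u) (_ : AddCommGroup P) (_ : Module B P) (_ : CommRing S) (_ : Algebra B S),
      Module.Free B P ∧ Algebra.FinitePresentation B S ∧ Nonempty (S ≃ₗ[B] P × M) := by
  obtain ⟨n, f, hf, hk⟩ := ‹Algebra.FinitePresentation B C›
  let P := MvPolynomial (Fin n) B
  let : Algebra P C := f.toRingHom.toAlgebra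
  have : IsScalarTower B P C := IsScalarTower.of_algebraMap_eq' f.comp_algebraMap.symm
  let : Module P M := Module.compHom M f.toRingHom
  have : IsScalarTower P C M := ⟨fun p c m ↦ by
    rw [Algebra.smul_def, mul_smul]; rfl⟩
  have : IsScalarTower B P M := ⟨fun b p m ↦ by
    rw [← IsScalarTower.algebraMap_smul C (b • p) m, Algebra.smul_def b p, map_mul,
      ← IsScalarTower.algebraMap_apply, mul_smul, IsScalarTower.algebraMap_smul,
      IsScalarTower.algebraMap_smul]⟩
  have hC : Module.FinitePresentation P C := by
    refine Module.finitePresentation_of_surjective (Algebra.linearMap P C) hf ?_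
    exact hk
  have : Module.FinitePresentation P M := Module.FinitePresentation.trans P M C
  let : Module Pᵐᵒᵖ M := Module.compHom M ((RingHom.id P).fromOpposite fun _ _ ↦ mul_comm _ _)
  have : IsCentralScalar P M := ⟨fun _ _ ↦ rfl⟩
  have : IsScalarTower B Pᵐᵒᵖ M := ⟨fun b p m ↦ by
    change ((b • p).unop • m : M) = b • (p.unop • m)
    rw [MulOpposite.unop_smul, smul_assoc]⟩
  let S := TrivSqZeroExt P M
  have hfin : Module.FinitePresentation P S := by
    change Module.FinitePresentation P (P × M)
    infer_instance
  have : IsScalarTower B P S := inferInstance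
  have : Algebra.FinitePresentation P S := inferInstance
  have : Algebra.FinitePresentation B S := Algebra.FinitePresentation.trans B P S
  exact ⟨P, S, inferInstance, inferInstance, inferInstance, inferInstance, inferInstance, this,
    ⟨LinearEquiv.refl B (P × M)⟩⟩

theorem flat_prod {R A B : Type u} [CommRing R] [AddCommGroup A] [Module R A] [AddCommGroup B] [Module R B]
    [Module.Flat R A] [Module.Flat R B] : Module.Flat R (A × B) := by
  rw [Module.Flat.iff_rTensor_preserves_injective_linearMap]
  intro N P _ _ _ _ f hf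
  have h1 : (TensorProduct.prodRight R R P A B).toLinearMap ∘ₗ (f.rTensor (A × B)) =
      ((f.rTensor A).prodMap (f.rTensor B)) ∘ₗ (TensorProduct.prodRight R R N A B).toLinearMap := by
    apply TensorProduct.ext'
    intro x y
    rfl
  have h2 : Function.Injective
      ((TensorProduct.prodRight R R P A B).toLinearMap ∘ₗ (f.rTensor (A × B))) := by
    rw [h1]
    have h3 : Function.Injective ((f.rTensor A).prodMap (f.rTensor B)) :=
      Prod.map_injective.mpr ⟨Module.Flat.rTensor_preserves_injective_linearMap f hf,
        Module.Flat.rTensor_preserves_injective_linearMap f hf⟩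
    exact h3.comp (TensorProduct.prodRight R R N A B).injective
  exact Function.Injective.of_comp (f := (TensorProduct.prodRight R R P A B)) h2

lemma flat_iff {B P S M : Type u} [CommRing B] [AddCommGroup P] [Module B P] [Module.Free B P]
    [CommRing S] [Algebra B S] [AddCommGroup M] [Module B M] (e : S ≃ₗ[B] P × M)
    (A : Type u) [CommRing A] [Algebra B A] :
    Module.Flat A (A ⊗[B] S) ↔ Module.Flat A (A ⊗[B] M) := by
  let e' : A ⊗[B] S ≃ₗ[A] (A ⊗[B] P) × (A ⊗[B] M) :=
    (LinearEquiv.baseChange B A _ _ e).trans (TensorProduct.prodRight B A A P M)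
  constructor
  · intro h
    have : Module.Flat A ((A ⊗[B] P) × (A ⊗[B] M)) := .of_linearEquiv e'.symm
    exact .of_retract (LinearMap.inr A (A ⊗[B] P) (A ⊗[B] M)) (LinearMap.snd A _ _) (by ext; simp)
  · intro h
    have : Module.Flat A ((A ⊗[B] P) × (A ⊗[B] M)) := flat_prod
    exact .of_linearEquiv e'

/-- **Flatness of finitely presented modules descends along directed colimits** (EGA IV 11.2.6 (ii)). -/
theorem exists_flat_mod {α : Type u} [PartialOrder α] [IsDirected α (· ≤ ·)] [Nonempty α]
    (F : α ⥤ CommRingCat.{u}) (c : Cocone F) (hc : IsColimit c) (B : Type u) [CommRing B]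
    [∀ i, Algebra B (F.obj i)] (ht : ∀ i j (h : i ≤ j) (x : B),
      (F.map (homOfLE h)).hom (algebraMap B (F.obj i) x) = algebraMap B (F.obj j) x)
    [Algebra B c.pt] (hb : ∀ i (x : B), (c.ι.app i).hom (algebraMap B (F.obj i) x) = algebraMap B c.pt x)
    (C M : Type u) [CommRing C] [Algebra B C] [Algebra.FinitePresentation B C]
    [AddCommGroup M] [Module B M] [Module C M] [IsScalarTower B C M] [Module.FinitePresentation C M]
    [H : Module.Flat c.pt (c.pt ⊗[B] M)] : ∃ i, Module.Flat (F.obj i) (F.obj i ⊗[B] M) := by
  obtain ⟨P, S, _, _, _, _, _, _, ⟨e⟩⟩ := exists_sqZero (B := B) (C := C) (M := M)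
  have : Module.Flat c.pt (c.pt ⊗[B] S) := (flat_iff e c.pt).mpr H
  obtain ⟨i, hi⟩ := FlatColim.exists_flat F c hc B ht hb S
  exact ⟨i, (flat_iff e (F.obj i)).mp hi⟩

/-- **Flatness of finitely presented modules descends to a finite stage**, subring version. -/
theorem exists_flat_stage_mod (A₀ A : Type u) [CommRing A₀] [CommRing A] [Algebra A₀ A]
    (C M : Type u) [CommRing C] [Algebra A₀ C] [Algebra.FinitePresentation A₀ C]
    [AddCommGroup M] [Module A₀ M] [Module C M] [IsScalarTower A₀ C M] [Module.FinitePresentation C M]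
    [H : Module.Flat A (A ⊗[A₀] M)] :
    ∃ s : Finset A, Module.Flat (Algebra.adjoin A₀ (s : Set A))
      (Algebra.adjoin A₀ (s : Set A) ⊗[A₀] M) := by
  obtain ⟨P, S, _, _, _, _, _, _, ⟨e⟩⟩ := exists_sqZero (B := A₀) (C := C) (M := M)
  have : Module.Flat A (A ⊗[A₀] S) := (flat_iff e A).mpr H
  obtain ⟨s, hs⟩ := Groth.Agent.Etbase.FlatStage.exists_flat_stage (A₀ := A₀) (A := A) S
  exact ⟨s, (flat_iff e _).mp hs⟩

end Groth.Agent.Smoothlim.FlatColimMod
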