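import Mathlib.RingTheory.QuasiFinite.Basic
import Mathlib.RingTheory.Localization.Integral
import Mathlib.RingTheory.RingHom.FiniteType

open Polynomial TensorProduct

namespace Groth.Agent.Smoothlim.GenFin

universe u v

variable {R : Type u} {S : Type v} [CommRing R] [CommRing S] [Algebra R S]

/-- Elements of `S` that become integral after multiplying by a power of `g`. -/
def almostIntegral (S : Type v) [CommRing S] [Algebra R S] (g : R) : Subalgebra R S where
  carrier := {x | ∃ n : ℕ, IsIntegral R (g ^ n • x)}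
  mul_mem' := by
    rintro x y ⟨n, hn⟩ ⟨m, hm⟩
    refine ⟨n + m, ?_⟩
    have : g ^ (n + m) • (x * y) = (g ^ n • x) * (g ^ m • y) := by
      rw [smul_mul_smul_comm, pow_add]
    rw [this]
    exact hn.mul hm
  add_mem' := by
    rintro x y ⟨n, hn⟩ ⟨m, hm⟩
    refine ⟨n + m, ?_⟩
    have : g ^ (n + m) • (x + y) = g ^ m • (g ^ n • x) + g ^ n • (g ^ m • y) := by
      rw [smul_add, smul_smul, smul_smul, pow_add, mul_comm (g ^ m)]
    rw [this]
    exact (hn.smul _).add (hm.smul _)
  algebraMap_mem' r := ⟨0, by simpa using isIntegral_algebraMap⟩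

/-- An element lying in all primes over a minimal prime `p` is killed, up to a power, by an
element outside `p`. -/
theorem exists_mul_pow_eq_zero (p : Ideal R) [p.IsPrime] (hp : p ∈ minimalPrimes R) (y : S)
    (hy : ∀ q : Ideal S, q.IsPrime → q.comap (algebraMap R S) = p → y ∈ q) :
    ∃ u ∉ p, ∃ N : ℕ, u • y ^ N = 0 := by
  by_contra hcon
  push Not at hcon
  let M : Submonoid S :=
    { carrier := {z | ∃ u ∉ p, ∃ N : ℕ, z = u • y ^ N}
      one_mem' := ⟨1, (Ideal.ne_top_iff_one p).mp ‹p.IsPrime›.ne_top, 0, by simp⟩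
      mul_mem' := by
        rintro _ _ ⟨u, hu, N, rfl⟩ ⟨v, hv, M, rfl⟩
        refine ⟨u * v, ?_, N + M, by rw [smul_mul_smul_comm, pow_add]⟩
        exact fun h => (‹p.IsPrime›.mem_or_mem h).elim hu hv }
  have hdisj : Disjoint ((⊥ : Ideal S) : Set S) M := by
    rw [Set.disjoint_left]
    rintro z hz ⟨u, hu, N, rfl⟩
    exact hcon u hu N (by simpa using hz)
  obtain ⟨q, hq, -, hqM⟩ := Ideal.exists_le_prime_disjoint _ _ hdisj
  have hle : q.comap (algebraMap R S) ≤ p := by
    intro r hr
    by_contra hrp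
    refine Set.disjoint_left.mp hqM (Ideal.mem_comap.mp hr) ⟨r, hrp, 0, ?_⟩
    simp [Algebra.smul_def]
  have heq : q.comap (algebraMap R S) = p := by
    have : (q.comap (algebraMap R S)).IsPrime := Ideal.IsPrime.comap _
    exact le_antisymm hle (hp.2 ⟨this, bot_le⟩ hle)
  refine Set.disjoint_left.mp hqM (hy q hq heq) ⟨1, ?_, 1, by simp⟩
  exact (Ideal.ne_top_iff_one p).mp ‹p.IsPrime›.ne_top

theorem mem_of_tmul_eq_zero (p : Ideal R) [p.IsPrime] (y : S)
    (hy : ((1 : p.ResidueField) ⊗ₜ[R] y : p.Fiber S) = 0) (q : Ideal S) (hq : q.IsPrime)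
    (hqp : q.comap (algebraMap R S) = p) : y ∈ q := by
  have h := congr(Algebra.TensorProduct.lift
    (Ideal.ResidueField.mapₐ p q (Algebra.ofId R S) hqp.symm)
      (IsScalarTower.toAlgHom R S q.ResidueField) (fun _ _ ↦ .all _ _) $hy)
  simpa using h

theorem exists_isIntegral_smul_of_fiber (p : Ideal R) [p.IsPrime] (hp : p ∈ minimalPrimes R) (x : S)
    (hx : IsIntegral p.ResidueField ((1 : p.ResidueField) ⊗ₜ[R] x : p.Fiber S)) :
    ∃ g ∉ p, IsIntegral R (g • x) := by
  obtain ⟨⟨m, hm⟩, hmx⟩ := IsIntegral.exists_multiple_integral_of_isLocalization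
    (R := R ⧸ p) (nonZeroDivisors (R ⧸ p)) _ hx
  obtain ⟨m, rfl⟩ := Ideal.Quotient.mk_surjective m
  have hmp : m ∉ p := by
    intro h
    rw [Ideal.Quotient.eq_zero_iff_mem.mpr h] at hm
    exact zero_notMem_nonZeroDivisors hm
  have h1 : IsIntegral R ((1 : p.ResidueField) ⊗ₜ[R] (m • x) : p.Fiber S) := by
    have h2 : ((1 : p.ResidueField) ⊗ₜ[R] (m • x) : p.Fiber S) =
      (⟨Ideal.Quotient.mk p m, hm⟩ : nonZeroDivisors (R ⧸ p)) •
        ((1 : p.ResidueField) ⊗ₜ[R] x : p.Fiber S) := by
      rw [TensorProduct.tmul_smul]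
      rw [Submonoid.smul_def]
      exact (algebraMap_smul (R ⧸ p) m _).symm
    rw [h2]
    exact isIntegral_trans _ hmx
  obtain ⟨Q, hQ, hQx⟩ := h1
  have h3 : ((1 : p.ResidueField) ⊗ₜ[R] (aeval (m • x) Q) : p.Fiber S) = 0 := by
    have h := Polynomial.aeval_algHom_apply
      (Algebra.TensorProduct.includeRight : S →ₐ[R] p.ResidueField ⊗[R] S) (m • x) Q
    simp only [Algebra.TensorProduct.includeRight_apply] at h
    rw [← h]
    exact hQx
  obtain ⟨u, hu, N, hN⟩ := exists_mul_pow_eq_zero p hp _ (mem_of_tmul_eq_zero p _ h3)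
  refine ⟨u * m, fun h => (‹p.IsPrime›.mem_or_mem h).elim hu hmp, ?_⟩
  have h4 := RingHom.isIntegralElem_leadingCoeff_mul (algebraMap R S) (C u * Q ^ N) (m • x) (by
    rw [← aeval_def]
    simpa [Algebra.smul_def] using hN)
  rw [Polynomial.leadingCoeff_mul_monic (hQ.pow N), leadingCoeff_C] at h4
  rw [mul_smul, Algebra.smul_def]
  exact h4

theorem finite_fiber_of_finite [Algebra.FiniteType R S] (p : Ideal R) [p.IsPrime]
    (hfin : (PrimeSpectrum.comap (algebraMap R S) ⁻¹' {⟨p, ‹_›⟩}).Finite) :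
    Module.Finite p.ResidueField (p.Fiber S) := by
  rw [Module.finite_iff_isArtinianRing, isArtinianRing_iff_isNoetherianRing_krullDimLE_zero]
  have : IsJacobsonRing (p.Fiber S) := isJacobsonRing_of_finiteType (A := p.ResidueField)
  have : Finite (PrimeSpectrum (p.Fiber S)) :=
    (PrimeSpectrum.preimageEquivFiber R S ⟨p, ‹_›⟩).finite_iff.mp hfin
  exact ⟨Algebra.FiniteType.isNoetherianRing p.ResidueField _,
    (PrimeSpectrum.discreteTopology_iff_finite_and_krullDimLE_zero.mp inferInstance).right⟩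

theorem almostIntegral_mono {g h : R} (hgh : g ∣ h) :
    almostIntegral S g ≤ almostIntegral S h := by
  rintro x ⟨n, hn⟩
  obtain ⟨c, rfl⟩ := hgh
  refine ⟨n, ?_⟩
  rw [mul_pow, mul_comm, mul_smul]
  exact hn.smul _

/-- Stacks 02MW (algebra): generic finiteness. -/
theorem exists_almostIntegral_eq_top [Algebra.FiniteType R S] (p : Ideal R) [p.IsPrime]
    (hp : p ∈ minimalPrimes R)
    (hfin : (PrimeSpectrum.comap (algebraMap R S) ⁻¹' {⟨p, ‹_›⟩}).Finite) :
    ∃ g ∉ p, almostIntegral S g = ⊤ := by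
  have := finite_fiber_of_finite p hfin
  obtain ⟨s, hs⟩ := Algebra.FiniteType.out (R := R) (A := S)
  have key : ∀ x : S, ∃ g ∉ p, IsIntegral R (g • x) := fun x =>
    exists_isIntegral_smul_of_fiber p hp x (Algebra.IsIntegral.isIntegral _)
  choose g hg hg' using key
  refine ⟨∏ x ∈ s, g x, ?_, ?_⟩
  · rw [‹p.IsPrime›.prod_mem_iff]
    push Not
    exact fun x _ => hg x
  · rw [eq_top_iff, ← hs]
    refine Algebra.adjoin_le fun x hx => ?_
    refine almostIntegral_mono (Finset.dvd_prod_of_mem g hx) ⟨1, ?_⟩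
    simpa using hg' x

theorem finite_awayMap_of_almostIntegral {R S : Type u} [CommRing R] [CommRing S] [Algebra R S]
    [Algebra.FiniteType R S] {g : R}
    (h : almostIntegral S g = ⊤) : (Localization.awayMap (algebraMap R S) g).Finite := by
  rw [RingHom.finite_iff_isIntegral_and_finiteType]
  constructor
  · intro z
    set φ := Localization.awayMap (algebraMap R S) g with hφ
    have hcomm : ∀ r : R, φ (algebraMap R (Localization.Away g) r) =
        algebraMap S (Localization.Away (algebraMap R S g)) (algebraMap R S r) := by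
      intro r
      simp [hφ, Localization.awayMap, IsLocalization.Away.map, IsLocalization.map_eq]
    obtain ⟨⟨x, ⟨_, k, rfl⟩⟩, hx⟩ := IsLocalization.surj (Submonoid.powers (algebraMap R S g)) z
    simp only at hx
    obtain ⟨n, hn⟩ : x ∈ almostIntegral S g := h ▸ Algebra.mem_top
    have h1 : φ.IsIntegralElem (algebraMap S _ (g ^ n • x)) := by
      obtain ⟨P, hP, hPx⟩ := hn
      refine ⟨P.map (algebraMap R _), hP.map _, ?_⟩
      rw [Polynomial.eval₂_map]
      have : φ.comp (algebraMap R (Localization.Away g)) =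
        (algebraMap S (Localization.Away (algebraMap R S g))).comp (algebraMap R S) :=
        RingHom.ext hcomm
      rw [this, ← Polynomial.hom_eval₂, hPx, map_zero]
    have hu : IsUnit (algebraMap R (Localization.Away g) (g ^ (n + k))) := by
      rw [map_pow]
      exact (IsLocalization.Away.algebraMap_isUnit g).pow _
    obtain ⟨u, hu⟩ := hu
    have h2 : z = φ ↑u⁻¹ * algebraMap S _ (g ^ n • x) := by
      have h3 : φ ↑u * z = algebraMap S _ (g ^ n • x) := by
        rw [hu, hcomm, Algebra.smul_def, map_mul, ← hx, pow_add]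
        simp only [map_mul, map_pow]
        ring
      rw [← h3, ← mul_assoc, ← map_mul]
      simp
    rw [h2]
    exact RingHom.IsIntegralElem.mul _ (RingHom.isIntegralElem_map φ) h1
  · exact RingHom.finiteType_localizationPreserves.away _ g _ _
      (RingHom.finiteType_algebraMap.mpr ‹_›)

end Groth.Agent.Smoothlim.GenFin
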