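import Groth.Agent.Smoothlim.TildePull
import Groth.Agent.Smoothlim.ConormalRes
set_option autoImplicit false
universe u
open CategoryTheory AlgebraicGeometry Limits TopologicalSpace

namespace Groth.Agent.Smoothlim.OmegaAffine
open Groth.Agent.Smoothlim.ModKer Groth.Agent.Smoothlim.TildePull Groth.Agent.Smoothlim.ConormalRes

lemma eq_zero_of_top {R : CommRingCat.{u}} {N : ModuleCat R} {M : (Spec R).Modules}
    (f : tilde N ⟶ M) (h : ∀ x, f.app ⊤ x = 0) : f = 0 := by
  apply (tilde.adjunction.homEquiv N M).injective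
  ext x
  simp only [Adjunction.homEquiv_unit]
  exact h _

variable {A B : CommRingCat.{u}} (φ : A ⟶ B)

lemma isLocalizing_unit : IsLocalizing (modulesSpecToSheaf.obj (Coh.structureModule (Spec A))) :=
  isLocalizing_tilde (ModuleCat.of A A)

lemma isLocalizing_push_unit : IsLocalizing (modulesSpecToSheaf.obj
    ((Scheme.Modules.pushforward (Spec.map φ)).obj (Coh.structureModule (Spec B)))) :=
  isLocalizing_pushforward_of_isLocalizing φ isLocalizing_unit

/-- the tilde of the inclusion of the kernel ideal -/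
noncomputable def tildeKerIncl :
    tilde (ModuleCat.of A (RingHom.ker φ.hom)) ⟶ Coh.structureModule (Spec A) :=
  tilde.map (kerIncl φ)

lemma toOpen_app (a : A) :
    (ClSub.unitToPush (Spec.map φ)).app ⊤ ((tilde.toOpen (ModuleCat.of A A) ⊤).hom a) =
      (tilde.toOpen (ModuleCat.of B B) ⊤).hom (φ.hom a) := by
  have := Scheme.ΓSpecIso_inv_naturality φ
  exact congr(($this) a).symm

lemma tildeKerIncl_app (a : RingHom.ker φ.hom) :
    (tildeKerIncl φ).app ⊤ ((tilde.toOpen (ModuleCat.of A (RingHom.ker φ.hom)) ⊤).hom a) =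
      (tilde.toOpen (ModuleCat.of A A) ⊤).hom (a : A) := by
  have := tilde.toOpen_map_app (kerIncl φ) ⊤
  exact congr(($this).hom a)

lemma toOpen_bijective {R : CommRingCat.{u}} (N : ModuleCat R) :
    Function.Bijective (tilde.toOpen N ⊤).hom := by
  exact ConcreteCategory.bijective_of_isIso (tilde.toOpen N ⊤)

noncomputable def kernelTildeIso :
    tilde (ModuleCat.of A (RingHom.ker φ.hom)) ≅ kernel (ClSub.unitToPush (Spec.map φ)) := by
  have w : tildeKerIncl φ ≫ ClSub.unitToPush (Spec.map φ) = 0 := by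
    apply eq_zero_of_top
    intro x
    obtain ⟨a, rfl⟩ := (toOpen_bijective _).2 x
    change (ClSub.unitToPush (Spec.map φ)).app ⊤ ((tildeKerIncl φ).app ⊤ _) = 0
    have h1 := tildeKerIncl_app φ a
    have h2 := toOpen_app φ a
    refine (congrArg _ h1).trans (h2.trans ?_)
    rw [show φ.hom (a : A) = 0 from a.2]
    exact map_zero _
  refine @asIso _ _ _ _ (kernel.lift _ (tildeKerIncl φ) w) ?_
  apply isIso_of_top
  · exact isLocalizing_tilde _
  · exact isLocalizing_kernel _ isLocalizing_unit (isLocalizing_push_unit φ)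
  · have hcomp : ∀ y, (kernel.ι (ClSub.unitToPush (Spec.map φ))).app ⊤
        ((kernel.lift _ (tildeKerIncl φ) w).app ⊤ y) = (tildeKerIncl φ).app ⊤ y := by
      intro y
      have := kernel.lift_ι _ (tildeKerIncl φ) w
      exact congr(($this).app ⊤ y)
    have hmono : Mono (kernel.ι (ClSub.unitToPush (Spec.map φ))) := equalizer.ι_mono
    have hinj := @app_injective_of_mono _ _ _ _ hmono ⊤
    constructor
    · intro x y hxy
      obtain ⟨a, rfl⟩ := (toOpen_bijective _).2 x
      obtain ⟨b, rfl⟩ := (toOpen_bijective _).2 y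
      have h3 := congrArg ((kernel.ι (ClSub.unitToPush (Spec.map φ))).app ⊤) hxy
      rw [hcomp, hcomp] at h3
      have h4 := (tildeKerIncl_app φ a).symm.trans (h3.trans (tildeKerIncl_app φ b))
      have h5 := (toOpen_bijective _).1 h4
      rw [Subtype.ext h5]
    · intro y
      obtain ⟨a, ha⟩ := (toOpen_bijective (ModuleCat.of A A)).2
        ((kernel.ι (ClSub.unitToPush (Spec.map φ))).app ⊤ y)
      have h6 : (ClSub.unitToPush (Spec.map φ)).app ⊤
          ((kernel.ι (ClSub.unitToPush (Spec.map φ))).app ⊤ y) = 0 := by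
        have := kernel.condition (ClSub.unitToPush (Spec.map φ))
        exact congr(($this).app ⊤ y)
      rw [← ha] at h6
      have h7 : (tilde.toOpen (ModuleCat.of B B) ⊤).hom (φ.hom a) =
        (tilde.toOpen (ModuleCat.of B B) ⊤).hom 0 :=
        (toOpen_app φ a).symm.trans (h6.trans (map_zero _).symm)
      have h8 : φ.hom a = 0 := (toOpen_bijective _).1 h7
      refine ⟨(tilde.toOpen (ModuleCat.of A (RingHom.ker φ.hom)) ⊤).hom ⟨a, h8⟩, ?_⟩
      apply hinj
      rw [hcomp]
      exact (tildeKerIncl_app φ ⟨a, h8⟩).trans ha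

end Groth.Agent.Smoothlim.OmegaAffine
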