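import Groth.Agent.Smoothlim.PowSec

/-!
# Powers of sections of powers of an invertible module

For an invertible module `L` and `s ∈ Γ(L^{⊗ n}, U)`, the section `s^k ∈ Γ(L^{⊗ nk}, U)` is
characterised by `IsPow s k r`; it exists (`exists_isPow`), is unique, is compatible with
restriction and with multiplication by functions, and has the same generator locus (`k ≥ 1`).
-/

set_option autoImplicit false
universe u
open CategoryTheory AlgebraicGeometry TensorProduct Opposite TopologicalSpace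

namespace Groth.Agent.Smoothlim.PowGlue

open Groth.Agent.Ega4dA.GenSec Groth.Agent.Smoothlim.PowSec

variable {X : Scheme.{u}} {M N L : X.Modules} {U V W : X.Opens}

/-- `r` is the `k`-th power of `s`, in terms of local generators of `L`. -/
def IsPow {n N : ℕ} (s : Γ(CohB1.tensorPow L n, U)) (k : ℕ) (r : Γ(CohB1.tensorPow L N, U)) :
    Prop :=
  ∀ (V : X.Opens) (h : V ≤ U) (e : Γ(L, V)), IsGen L V e → ∀ a : Γ(X, V),
    a • powSec e n = res _ h s → a ^ k • powSec e N = res _ h r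

theorem exists_gen_le (hL : PicF.IsInvertible L) (x : X) (hx : x ∈ U) :
    ∃ (V : X.Opens) (_ : V ≤ U) (_ : x ∈ V) (e : Γ(L, V)), IsGen L V e := by
  obtain ⟨V, hxV, e, he⟩ := isInvertible_iff.mp hL x
  exact ⟨V ⊓ U, inf_le_right, ⟨hxV, hx⟩, res L inf_le_left e, he.mono _⟩

theorem exists_coeff {n : ℕ} (s : Γ(CohB1.tensorPow L n, U)) (h : V ≤ U) {e : Γ(L, V)}
    (he : IsGen L V e) : ∃ a : Γ(X, V), a • powSec e n = res _ h s :=
  (isGen_powSec he n).exists_eq' _

/-- A criterion: it is enough to have, around each point, one generator for which the power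
relation holds. -/
theorem isPow_of_locally {n N : ℕ} (k : ℕ) (hN : N = n * k) (s : Γ(CohB1.tensorPow L n, U))
    (r : Γ(CohB1.tensorPow L N, U))
    (H : ∀ x ∈ U, ∃ (V : X.Opens) (h : V ≤ U) (_ : x ∈ V) (e : Γ(L, V)) (_ : IsGen L V e)
      (a : Γ(X, V)), a • powSec e n = res _ h s ∧ a ^ k • powSec e N = res _ h r) :
    IsPow s k r := by
  subst hN
  intro V h e he a ha
  apply eq_of_locally
  intro x hx
  obtain ⟨V', h', hxV', e', he', a', ha', hr⟩ := H x (h hx)
  refine ⟨V ⊓ V', inf_le_left, ⟨hx, hxV'⟩, ?_⟩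
  obtain ⟨g, hg⟩ := (he'.mono (inf_le_right : V ⊓ V' ≤ V')).exists_eq' (res L inf_le_left e)
  have hgen := isGen_powSec (he'.mono (inf_le_right : V ⊓ V' ≤ V')) n
  have e1 : resO X (inf_le_left : V ⊓ V' ≤ V) a * g ^ n = resO X (inf_le_right : V ⊓ V' ≤ V') a' := by
    apply hgen.injective'
    rw [mul_smul, ← powSec_smul, hg, ← res_powSec, ← res_smul, ha, ← res_powSec, ← res_smul, ha',
      res_res, res_res]
  have hr' := congrArg (res _ (inf_le_right : V ⊓ V' ≤ V')) hr
  rw [res_res, res_smul, res_powSec] at hr'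
  rw [res_res, res_smul, res_powSec, ← hg, powSec_smul, smul_smul, ← hr']
  congr 1
  have e2 : resO X (inf_le_right : V ⊓ V' ≤ V') (a' ^ k) =
      (resO X (inf_le_right : V ⊓ V' ≤ V') a') ^ k :=
    map_pow (X.presheaf.map (homOfLE (inf_le_right : V ⊓ V' ≤ V')).op).hom a' k
  have e3 : resO X (inf_le_left : V ⊓ V' ≤ V) (a ^ k) =
      (resO X (inf_le_left : V ⊓ V' ≤ V) a) ^ k :=
    map_pow (X.presheaf.map (homOfLE (inf_le_left : V ⊓ V' ≤ V)).op).hom a k
  rw [e2, e3, ← e1, mul_pow, pow_mul]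

theorem exists_isPow (hL : PicF.IsInvertible L) {n : ℕ} (s : Γ(CohB1.tensorPow L n, U)) (k N : ℕ)
    (hN : N = n * k) : ∃ r : Γ(CohB1.tensorPow L N, U), IsPow s k r := by
  subst hN
  choose V hV hxV e he using fun x : U => exists_gen_le (U := U) hL x.1 x.2
  choose a ha using fun x : U => exists_coeff s (hV x) (he x)
  obtain ⟨r, hr⟩ := exists_glue (CohB1.tensorPow L (n * k)) V hV
    (fun x hx => Opens.mem_iSup.mpr ⟨⟨x, hx⟩, hxV ⟨x, hx⟩⟩)
    (fun x => a x ^ k • powSec (e x) (n * k)) (by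
      intro x y
      obtain ⟨g, hg⟩ := ((he x).mono (inf_le_left : V x ⊓ V y ≤ V x)).exists_eq'
        (res L inf_le_right (e y))
      have hgen := isGen_powSec ((he x).mono (inf_le_left : V x ⊓ V y ≤ V x)) n
      have e1 : resO X (inf_le_right : V x ⊓ V y ≤ V y) (a y) * g ^ n =
          resO X (inf_le_left : V x ⊓ V y ≤ V x) (a x) := by
        apply hgen.injective'
        rw [mul_smul, ← powSec_smul, hg, ← res_powSec, ← res_smul, ha, ← res_powSec, ← res_smul,
          ha, res_res, res_res]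
      have e2 : resO X (inf_le_right : V x ⊓ V y ≤ V y) (a y ^ k) =
          (resO X (inf_le_right : V x ⊓ V y ≤ V y) (a y)) ^ k :=
        map_pow (X.presheaf.map (homOfLE (inf_le_right : V x ⊓ V y ≤ V y)).op).hom _ k
      have e3 : resO X (inf_le_left : V x ⊓ V y ≤ V x) (a x ^ k) =
          (resO X (inf_le_left : V x ⊓ V y ≤ V x) (a x)) ^ k :=
        map_pow (X.presheaf.map (homOfLE (inf_le_left : V x ⊓ V y ≤ V x)).op).hom _ k
      rw [res_smul, res_smul, res_powSec, res_powSec, ← hg, powSec_smul, smul_smul, e2, e3, ← e1,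
        mul_pow, pow_mul])
  refine ⟨r, isPow_of_locally k rfl s r fun x hx => ?_⟩
  exact ⟨V ⟨x, hx⟩, hV _, hxV _, e _, he _, a _, ha _, (hr ⟨x, hx⟩).symm⟩

theorem IsPow.res {n N k : ℕ} {s : Γ(CohB1.tensorPow L n, U)} {r : Γ(CohB1.tensorPow L N, U)}
    (h : IsPow s k r) (hV : V ≤ U) : IsPow (res _ hV s) k (res _ hV r) := by
  intro W hW e he a ha
  rw [res_res] at ha ⊢
  exact h W _ e he a ha

theorem IsPow.smul {n N k : ℕ} {s : Γ(CohB1.tensorPow L n, U)} {r : Γ(CohB1.tensorPow L N, U)}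
    (h : IsPow s k r) (b : Γ(X, U)) : IsPow (b • s) k (b ^ k • r) := by
  intro W hW e he a ha
  obtain ⟨c, hc⟩ := exists_coeff s hW he
  have h1 := h W hW e he c hc
  rw [res_smul, ← hc, smul_smul] at ha
  have h2 := (isGen_powSec he n).injective' ha
  have e2 : resO X hW (b ^ k) = (resO X hW b) ^ k :=
        map_pow (X.presheaf.map (homOfLE hW).op).hom _ k
  rw [res_smul, ← h1, smul_smul, h2, mul_pow, e2]

theorem IsPow.unique (hL : PicF.IsInvertible L) {n N k : ℕ} {s : Γ(CohB1.tensorPow L n, U)}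
    {r r' : Γ(CohB1.tensorPow L N, U)} (h : IsPow s k r) (h' : IsPow s k r') : r = r' := by
  apply eq_of_locally
  intro x hx
  obtain ⟨V, hV, hxV, e, he⟩ := exists_gen_le (U := U) hL x hx
  obtain ⟨a, ha⟩ := exists_coeff s hV he
  exact ⟨V, hV, hxV, (h V hV e he a ha).symm.trans (h' V hV e he a ha)⟩

theorem IsPow.isGen (hL : PicF.IsInvertible L) {n N k : ℕ} {s : Γ(CohB1.tensorPow L n, U)}
    {r : Γ(CohB1.tensorPow L N, U)} (h : IsPow s k r) (hs : IsGen _ U s) : IsGen _ U r := by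
  apply isGen_of_cover
  intro x hx
  obtain ⟨V, hV, hxV, e, he⟩ := exists_gen_le (U := U) hL x hx
  obtain ⟨a, ha⟩ := exists_coeff s hV he
  refine ⟨V, hV, hxV, ?_⟩
  rw [← h V hV e he a ha, isGen_smul_iff (isGen_powSec he N)]
  apply IsUnit.pow
  rw [← isGen_smul_iff (isGen_powSec he n), ha]
  exact hs.mono hV

theorem IsPow.isGen_of_pos (hL : PicF.IsInvertible L) {n N k : ℕ}
    {s : Γ(CohB1.tensorPow L n, U)}
    {r : Γ(CohB1.tensorPow L N, U)} (h : IsPow s k r) (hk : k ≠ 0) (hr : IsGen _ U r) :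
    IsGen _ U s := by
  apply isGen_of_cover
  intro x hx
  obtain ⟨V, hV, hxV, e, he⟩ := exists_gen_le (U := U) hL x hx
  obtain ⟨a, ha⟩ := exists_coeff s hV he
  refine ⟨V, hV, hxV, ?_⟩
  rw [← ha, isGen_smul_iff (isGen_powSec he n)]
  have := hr.mono hV
  rw [← h V hV e he a ha, isGen_smul_iff (isGen_powSec he N)] at this
  exact (isUnit_pow_iff hk).mp this

/-- The generator locus of a global section. -/
noncomputable def gl (s : Γ(M, ⊤)) : X.Opens := CohB1.genLocus M (homOfSec M s)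

theorem le_gl_iff (s : Γ(M, ⊤)) (U : X.Opens) : U ≤ gl s ↔ IsGen M U (res M le_top s) := by
  unfold gl
  rw [le_genLocus_iff, sec_homOfSec]

theorem gl_eq_of_isPow (hL : PicF.IsInvertible L) {n N k : ℕ}
    {s : Γ(CohB1.tensorPow L n, ⊤)} {r : Γ(CohB1.tensorPow L N, ⊤)} (h : IsPow s k r)
    (hk : k ≠ 0) : gl r = gl s := by
  apply le_antisymm
  · rw [le_gl_iff]
    exact (h.res (le_top : gl r ≤ ⊤)).isGen_of_pos hL hk ((le_gl_iff _ _).mp le_rfl)
  · rw [le_gl_iff]
    exact (h.res (le_top : gl s ≤ ⊤)).isGen hL ((le_gl_iff _ _).mp le_rfl)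

end Groth.Agent.Smoothlim.PowGlue
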