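import Groth.Agent.Smoothlim.TensorLocal
import Groth.Agent.Ega4dA.GenSec

/-!
# Products and powers of sections of (invertible) `O_X`-modules

* `tm s t` : the section `s ⊗ t` of `tensorMod M N`; bilinear, compatible with restriction, a
  generator if `s` and `t` are (`isGen_tm`).
* `powSec e n` : the section `e^{⊗ n}` of `tensorPow L n`.
* `le_genLocus_iff`, `genLocus_inf_eq_basicOpen` : the open `genLocus M s` in terms of generators.
-/

set_option autoImplicit false
universe u
open CategoryTheory AlgebraicGeometry TensorProduct Opposite TopologicalSpace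

namespace Groth.Agent.Smoothlim.PowSec

open Groth.Agent.Ega4dA.GenSec
open Groth.Agent.Smoothlim.TensorLocal (TS etaU etaU_smul resTS resTS_tmul etaU_res
  exists_local_rep exists_local_zero)

variable {X : Scheme.{u}} {M N L : X.Modules} {U V W : X.Opens}

/-- A criterion for being a generator: injectivity and local surjectivity. -/
theorem isGen_of_locally {s : Γ(M, U)}
    (h1 : ∀ (V : X.Opens) (h : V ≤ U) (a : Γ(X, V)), a • res M h s = 0 → a = 0)
    (h2 : ∀ (V : X.Opens) (h : V ≤ U) (t : Γ(M, V)) (x : X) (_ : x ∈ V),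
      ∃ (V' : X.Opens) (h' : V' ≤ V), x ∈ V' ∧ ∃ a : Γ(X, V'), a • res M (h'.trans h) s = res M h' t) :
    IsGen M U s := by
  intro V hV
  have hinj : ∀ (V : X.Opens) (h : V ≤ U) (a b : Γ(X, V)), a • res M h s = b • res M h s → a = b := by
    intro V h a b hab
    have := h1 V h (a - b) (by rw [sub_smul, hab, sub_self])
    exact sub_eq_zero.mp this
  refine ⟨fun a b hab => hinj V hV a b hab, fun t => ?_⟩
  choose V' hV' hx a ha using h2 V hV t
  obtain ⟨b, hb⟩ := existsO_glue (U := V) (fun x : V => V' x.1 x.2)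
    (fun x => hV' x.1 x.2) (fun x hxV => Opens.mem_iSup.mpr ⟨⟨x, hxV⟩, hx x hxV⟩)
    (fun x => a x.1 x.2) (by
      intro x y
      apply hinj _ (inf_le_left.trans ((hV' x.1 x.2).trans hV))
      have e1 := congrArg (res M (inf_le_left : V' x.1 x.2 ⊓ V' y.1 y.2 ≤ _)) (ha x.1 x.2)
      have e2 := congrArg (res M (inf_le_right : V' x.1 x.2 ⊓ V' y.1 y.2 ≤ _)) (ha y.1 y.2)
      simp only [res_smul, res_res] at e1 e2
      rw [e1, e2])
  refine ⟨b, ?_⟩
  refine eq_of_locally M fun x hxV => ⟨V' x hxV, hV' x hxV, hx x hxV, ?_⟩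
  have := hb ⟨x, hxV⟩
  simp only [res_smul, res_res]
  rw [this]
  exact ha x hxV

section tm

/-- The product section `s ⊗ t`. -/
noncomputable def tm (s : Γ(M, U)) (t : Γ(N, U)) : Γ(CohB1.tensorMod M N, U) :=
  etaU M N U (s ⊗ₜ t)

theorem tm_smul_left (a : Γ(X, U)) (s : Γ(M, U)) (t : Γ(N, U)) :
    tm (a • s) t = a • tm s t := by
  unfold tm
  rw [← TensorProduct.smul_tmul', etaU_smul]

theorem tm_smul_right (a : Γ(X, U)) (s : Γ(M, U)) (t : Γ(N, U)) :
    tm s (a • t) = a • tm s t := by
  unfold tm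
  rw [TensorProduct.tmul_smul, etaU_smul]

theorem res_tm (h : V ≤ U) (s : Γ(M, U)) (t : Γ(N, U)) :
    res (CohB1.tensorMod M N) h (tm s t) = tm (res M h s) (res N h t) := by
  unfold tm
  rw [res_def, etaU_res, resTS_tmul]
  rfl

theorem resTS_smul (h : V ≤ U) (a : Γ(X, U)) (τ : TS M N U) :
    resTS M N h (a • τ) = resO X h a • resTS M N h τ := by
  induction τ using TensorProduct.induction_on with
  | zero => rw [smul_zero, map_zero, smul_zero]
  | tmul s t =>
    rw [TensorProduct.smul_tmul', resTS_tmul, resTS_tmul, TensorProduct.smul_tmul']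
    congr 1
    exact Scheme.Modules.map_smul M (homOfLE h) a s
  | add x y hx hy => rw [smul_add, map_add, map_add, hx, hy, smul_add]

/-- The linear equivalence `O(U) ≃ M(U)` given by a generator. -/
noncomputable def genEquiv {s : Γ(M, U)} (hs : IsGen M U s) : Γ(X, U) ≃ₗ[Γ(X, U)] Γ(M, U) :=
  LinearEquiv.ofBijective (LinearMap.toSpanSingleton _ _ s) (by
    have := hs U le_rfl
    rw [res_self] at this
    exact this)

theorem genEquiv_apply {s : Γ(M, U)} (hs : IsGen M U s) (a : Γ(X, U)) :
    genEquiv hs a = a • s := rfl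

theorem genEquiv_symm_self {s : Γ(M, U)} (hs : IsGen M U s) : (genEquiv hs).symm s = 1 := by
  rw [LinearEquiv.symm_apply_eq, genEquiv_apply, one_smul]

/-- The identification of `M(U) ⊗ N(U)` with `O(U)` given by generators. -/
noncomputable def tsEquiv {s : Γ(M, U)} {t : Γ(N, U)} (hs : IsGen M U s) (ht : IsGen N U t) :
    TS M N U ≃ₗ[Γ(X, U)] Γ(X, U) :=
  (TensorProduct.congr (genEquiv hs).symm (genEquiv ht).symm).trans (TensorProduct.lid _ _)

theorem tsEquiv_tmul {s : Γ(M, U)} {t : Γ(N, U)} (hs : IsGen M U s) (ht : IsGen N U t) :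
    tsEquiv hs ht (s ⊗ₜ t) = 1 := by
  rw [tsEquiv, LinearEquiv.trans_apply, TensorProduct.congr_tmul, genEquiv_symm_self,
    genEquiv_symm_self, TensorProduct.lid_tmul, one_smul]

theorem isGen_tm {s : Γ(M, U)} {t : Γ(N, U)} (hs : IsGen M U s) (ht : IsGen N U t) :
    IsGen (CohB1.tensorMod M N) U (tm s t) := by
  apply isGen_of_locally
  · intro V h a ha
    rw [res_tm] at ha
    have h0 : etaU M N V (a • (res M h s ⊗ₜ res N h t)) = 0 := by
      rw [etaU_smul]; exact ha
    refine eqO_of_locally fun x hx => ?_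
    obtain ⟨V', hV', hxV', h1⟩ := exists_local_zero M N _ h0 x hx
    refine ⟨V', hV', hxV', ?_⟩
    rw [resTS_smul, resTS_tmul] at h1
    have h2 := congrArg (tsEquiv ((hs.mono h).mono hV') ((ht.mono h).mono hV')) h1
    rw [map_smul, map_zero] at h2
    have h3 : tsEquiv ((hs.mono h).mono hV') ((ht.mono h).mono hV')
      ((M.presheaf.map (homOfLE hV').op (res M h s)) ⊗ₜ
        (N.presheaf.map (homOfLE hV').op (res N h t))) = 1 := tsEquiv_tmul _ _
    rw [h3, smul_eq_mul, mul_one] at h2
    rw [h2, resO_zero]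
  · intro V h σ x hx
    obtain ⟨V', hV', hxV', τ, hτ⟩ := exists_local_rep M N σ x hx
    refine ⟨V', hV', hxV', tsEquiv ((hs.mono (hV'.trans h))) ((ht.mono (hV'.trans h))) τ, ?_⟩
    have hσ : res (CohB1.tensorMod M N) hV' σ = etaU M N V' τ := hτ.symm
    rw [res_tm, hσ]
    unfold tm
    rw [← etaU_smul]
    congr 1
    apply (tsEquiv ((hs.mono (hV'.trans h))) ((ht.mono (hV'.trans h)))).injective
    rw [map_smul, tsEquiv_tmul, smul_eq_mul, mul_one]

end tm

section powSec

/-- The section `e^{⊗ n}` of `L^{⊗ n}`. -/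
noncomputable def powSec (e : Γ(L, U)) : (n : ℕ) → Γ(CohB1.tensorPow L n, U)
  | 0 => oneSec X U
  | n + 1 => tm (powSec e n) e

theorem res_powSec (h : V ≤ U) (e : Γ(L, U)) (n : ℕ) :
    res (CohB1.tensorPow L n) h (powSec e n) = powSec (res L h e) n := by
  induction n with
  | zero => exact res_oneSec h
  | succ n ih =>
    have := res_tm h (powSec e n) e
    rw [ih] at this
    exact this

theorem powSec_smul (a : Γ(X, U)) (e : Γ(L, U)) (n : ℕ) :
    powSec (a • e) n = a ^ n • powSec e n := by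
  induction n with
  | zero =>
    rw [pow_zero, one_smul]; rfl
  | succ n ih =>
    have h1 : powSec (a • e) (n + 1) = tm (powSec (a • e) n) (a • e) := rfl
    have h2 : powSec e (n + 1) = tm (powSec e n) e := rfl
    rw [h1, h2, ih, tm_smul_left, tm_smul_right, smul_smul, pow_succ]
    rfl

theorem isGen_powSec {e : Γ(L, U)} (he : IsGen L U e) (n : ℕ) :
    IsGen (CohB1.tensorPow L n) U (powSec e n) := by
  induction n with
  | zero => exact isGen_oneSec U
  | succ n ih => exact isGen_tm ih he

end powSec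

section genLocus

/-- The global section attached to a morphism from the structure module. -/
noncomputable def sec (s : Coh.structureModule X ⟶ M) : Γ(M, ⊤) := s.app ⊤ (oneSec X ⊤)

theorem sec_homOfSec (t : Γ(M, ⊤)) : sec (homOfSec M t) = t := by
  unfold sec
  rw [homOfSec_app_one, res_self]

theorem app_eq (s : Coh.structureModule X ⟶ M) (U : X.Opens) (a : Γ(X, U)) :
    s.app U (show Γ(Coh.structureModule X, U) from a) = a • res M le_top (sec s) := by
  have h1 : s = homOfSec M (sec s) := by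
    apply hom_ext_unit
    rw [homOfSec_app_one, res_self]; rfl
  conv_lhs => rw [h1]
  rfl

theorem isIso_restrict_iff (s : Coh.structureModule X ⟶ M) (U : X.Opens) :
    IsIso ((Scheme.Modules.restrictFunctor U.ι).map s) ↔ IsGen M U (res M le_top (sec s)) := by
  rw [Scheme.Modules.Hom.isIso_iff_isIso_app]
  have key : ∀ W : (U : Scheme.{u}).Opens,
      IsIso (((Scheme.Modules.restrictFunctor U.ι).map s).app W) ↔
      Function.Bijective (fun a : Γ(X, U.ι ''ᵁ W) =>
        a • res M (le_top : U.ι ''ᵁ W ≤ ⊤) (sec s)) := by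
    intro W
    rw [ConcreteCategory.isIso_iff_bijective]
    have : (fun a : Γ(X, U.ι ''ᵁ W) => a • res M (le_top : U.ι ''ᵁ W ≤ ⊤) (sec s)) =
        (fun a : Γ(X, U.ι ''ᵁ W) =>
          s.app (U.ι ''ᵁ W) (show Γ(Coh.structureModule X, U.ι ''ᵁ W) from a)) := by
      funext a; exact (app_eq s _ a).symm
    rw [this]
    exact Iff.rfl
  simp only [key]
  constructor
  · intro h V hV
    have h1 := h (U.ι ⁻¹ᵁ V)
    have h2 : U.ι ''ᵁ (U.ι ⁻¹ᵁ V) = V := by
      rw [Scheme.Hom.image_preimage_eq_opensRange_inf, Scheme.Opens.opensRange_ι]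
      exact inf_eq_right.mpr hV
    rw [h2] at h1
    rw [res_res]
    exact h1
  · intro h W
    have hW : U.ι ''ᵁ W ≤ U := (U.ι.image_mono (le_top : W ≤ ⊤)).trans (by simp)
    have := h (U.ι ''ᵁ W) hW
    rw [res_res] at this
    exact this

theorem le_genLocus_iff (s : Coh.structureModule X ⟶ M) (U : X.Opens) :
    U ≤ CohB1.genLocus M s ↔ IsGen M U (res M le_top (sec s)) := by
  have hgen : IsGen M (CohB1.genLocus M s) (res M le_top (sec s)) := by
    apply isGen_of_cover
    intro x hx
    obtain ⟨V, hV, hxV⟩ := Opens.mem_sSup.mp hx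
    refine ⟨V, le_sSup hV, hxV, ?_⟩
    rw [res_res]
    exact (isIso_restrict_iff s V).mp hV
  constructor
  · intro h
    have := hgen.mono h
    rwa [res_res] at this
  · intro h
    exact le_sSup ((isIso_restrict_iff s U).mpr h)

theorem mem_genLocus_iff (s : Coh.structureModule X ⟶ M) (x : X) :
    x ∈ CohB1.genLocus M s ↔ ∃ U : X.Opens, x ∈ U ∧ IsGen M U (res M le_top (sec s)) := by
  constructor
  · intro h
    exact ⟨_, h, (le_genLocus_iff s _).mp le_rfl⟩
  · rintro ⟨U, hx, hU⟩
    exact (le_genLocus_iff s U).mpr hU hx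

/-- A multiple of a generator is a generator iff the factor is a unit. -/
theorem isGen_smul_iff {e : Γ(M, U)} (he : IsGen M U e) (a : Γ(X, U)) :
    IsGen M U (a • e) ↔ IsUnit a := by
  constructor
  · intro h
    obtain ⟨b, hb⟩ := h.exists_eq' e
    rw [← mul_smul] at hb
    have := he.injective' (hb.trans (one_smul _ e).symm)
    exact IsUnit.of_mul_eq_one_right b this
  · exact he.smul

theorem le_basicOpen_iff (h : V ≤ U) (a : Γ(X, U)) :
    V ≤ X.basicOpen a ↔ IsUnit (resO X h a) := by
  constructor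
  · intro hV
    have h1 : IsUnit (resO X (X.basicOpen_le a) a) := RingedSpace.isUnit_res_basicOpen _ _
    have h2 := h1.map (X.presheaf.map (homOfLE hV).op).hom
    have h3 : (X.presheaf.map (homOfLE hV).op).hom (resO X (X.basicOpen_le a) a) = resO X h a :=
      resO_resO (X.basicOpen_le a) hV a
    rwa [h3] at h2
  · intro hu
    have h1 := X.basicOpen_of_isUnit hu
    have h2 : X.basicOpen (resO X h a) = V ⊓ X.basicOpen a := X.basicOpen_res a (homOfLE h).op
    rw [h2] at h1
    exact inf_eq_left.mp h1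

theorem genLocus_inf_eq_basicOpen (s : Coh.structureModule X ⟶ M) {e : Γ(M, U)}
    (he : IsGen M U e) (a : Γ(X, U)) (ha : a • e = res M le_top (sec s)) :
    CohB1.genLocus M s ⊓ U = X.basicOpen a := by
  have key : ∀ V : X.Opens, V ≤ U → (V ≤ CohB1.genLocus M s ↔ V ≤ X.basicOpen a) := by
    intro V hV
    rw [le_genLocus_iff, le_basicOpen_iff hV, ← isGen_smul_iff (he.mono hV), ← res_smul, ha, res_res]
  apply le_antisymm
  · exact (key _ inf_le_right).mp inf_le_left
  · exact le_inf ((key _ (X.basicOpen_le a)).mpr le_rfl) (X.basicOpen_le a)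

end genLocus

end Groth.Agent.Smoothlim.PowSec
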