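import Groth.Agent.Smoothlim.ResolveMod
import Groth.Agent.Smoothlim.StdBaseChange
import Mathlib.RingTheory.TensorProduct.Basic

/-!
# Resolving modulo `(π_1^8, …, π_r^8)` (Stacks Tag 07F8)
-/

set_option autoImplicit false
universe u

open Smoothing TensorProduct

namespace Groth.Agent.Smoothlim.ResolvePi

/-- Base change of a map `A → Λ` along `R → R'`, `Λ → Λ'`. -/
noncomputable def bc {R A Λ : Type u} [CommRing R] [CommRing A] [Algebra R A] [CommRing Λ]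
    [Algebra R Λ] (R' Λ' : Type u) [CommRing R'] [Algebra R R'] [CommRing Λ'] [Algebra Λ Λ']
    [Algebra R Λ'] [IsScalarTower R Λ Λ'] [Algebra R' Λ'] [IsScalarTower R R' Λ']
    (φ : A →ₐ[R] Λ) : R' ⊗[R] A →ₐ[R'] Λ' :=
  Algebra.TensorProduct.lift (Algebra.ofId R' Λ') ((IsScalarTower.toAlgHom R Λ Λ').comp φ)
    (fun _ _ => Commute.all _ _)

theorem bc_tmul {R A Λ : Type u} [CommRing R] [CommRing A] [Algebra R A] [CommRing Λ]
    [Algebra R Λ] (R' Λ' : Type u) [CommRing R'] [Algebra R R'] [CommRing Λ'] [Algebra Λ Λ']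
    [Algebra R Λ'] [IsScalarTower R Λ Λ'] [Algebra R' Λ'] [IsScalarTower R R' Λ']
    (φ : A →ₐ[R] Λ) (r : R') (a : A) :
    bc R' Λ' φ (r ⊗ₜ a) = algebraMap R' Λ' r * algebraMap Λ Λ' (φ a) := by
  rw [bc, Algebra.TensorProduct.lift_tmul]
  rfl

/-- `φ` factors through a finitely presented algebra whose extended singular ideal is not smaller
than `𝔞` (on primes) and not contained in `𝔮`. -/
def Res (R : Type u) [CommRing R] {A Λ : Type u} [CommRing A] [Algebra R A] [CommRing Λ]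
    [Algebra R Λ] (φ : A →ₐ[R] Λ) (𝔞 𝔮 : Ideal Λ) : Prop :=
  ∃ (B : Type u) (_ : CommRing B) (_ : Algebra R B), Algebra.FinitePresentation R B ∧
    ∃ (g : A →ₐ[R] B) (h : B →ₐ[R] Λ), h.comp g = φ ∧
      (∀ (𝔭 : Ideal Λ) [𝔭.IsPrime], (singularIdeal R B).map h ≤ 𝔭 → 𝔞 ≤ 𝔭) ∧
      ¬ (singularIdeal R B).map h ≤ 𝔮

theorem singularIdeal_eq_of_base {R R' C : Type u} [CommRing R] [CommRing R'] [CommRing C]
    [Algebra R R'] [Algebra R C] [Algebra R' C] [IsScalarTower R R' C]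
    (h : Function.Bijective (algebraMap R R')) : singularIdeal R C = singularIdeal R' C := by
  ext c
  rw [SingIdeal.mem_iff_forall, SingIdeal.mem_iff_forall]
  constructor
  · intro hc q hq hcq
    have := hc q hcq
    have h1 : Algebra.FormallyUnramified R R' :=
      Algebra.FormallyUnramified.of_surjective (Algebra.ofId R R') h.2
    exact Algebra.FormallySmooth.of_restrictScalars R R' _
  · intro hc q hq hcq
    have := hc q hcq
    exact ResolveMod.isSmoothAt_of_base (R := R) (R' := R') h q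

theorem prime_map_of_ker_le {Λ Λ' : Type u} [CommRing Λ] [CommRing Λ'] [Algebra Λ Λ']
    (hs : Function.Surjective (algebraMap Λ Λ')) (𝔮 : Ideal Λ) [𝔮.IsPrime]
    (hk : RingHom.ker (algebraMap Λ Λ') ≤ 𝔮) :
    (𝔮.map (algebraMap Λ Λ')).IsPrime ∧ (𝔮.map (algebraMap Λ Λ')).comap (algebraMap Λ Λ') = 𝔮 := by
  refine ⟨Ideal.map_isPrime_of_surjective hs hk, ?_⟩
  rw [Ideal.comap_map_of_surjective _ hs, sup_eq_left]
  exact hk

/-- The statement of the induction. -/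
def Main (r : ℕ) : Prop := ∀ (R Λ A : Type u) [CommRing R] [IsNoetherianRing R] [CommRing Λ]
    [Algebra R Λ] [CommRing A] [Algebra R A] [Algebra.FinitePresentation R A] (φ : A →ₐ[R] Λ)
    (𝔞 𝔮 : Ideal Λ) [𝔮.IsPrime] (π : Fin r → R) (_ : ∀ i, algebraMap R Λ (π i) ∈ 𝔮)
    (_ : ∀ i : Fin r, ∀ x : R, π i ^ 2 * x ∈ Ideal.span ((fun j => π j ^ 8) '' {j | j < i}) →
      π i * x ∈ Ideal.span ((fun j => π j ^ 8) '' {j | j < i}))
    (_ : ∀ i : Fin r, ∀ x : Λ, algebraMap R Λ (π i) ^ 2 * x ∈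
        Ideal.span ((fun j => algebraMap R Λ (π j) ^ 8) '' {j | j < i}) →
      algebraMap R Λ (π i) * x ∈ Ideal.span ((fun j => algebraMap R Λ (π j) ^ 8) '' {j | j < i}))
    (_ : ∀ i, IsStrictlyStandard R A (algebraMap R A (π i)))
    (R' Λ' C : Type u) [CommRing R'] [Algebra R R'] [CommRing Λ'] [Algebra Λ Λ'] [Algebra R Λ']
    [IsScalarTower R Λ Λ'] [Algebra R' Λ'] [IsScalarTower R R' Λ']
    (_ : Function.Surjective (algebraMap R R'))
    (_ : RingHom.ker (algebraMap R R') = Ideal.span (Set.range fun i => π i ^ 8))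
    (_ : Function.Surjective (algebraMap Λ Λ'))
    (_ : RingHom.ker (algebraMap Λ Λ') = Ideal.span (Set.range fun i => algebraMap R Λ (π i) ^ 8))
    [CommRing C] [Algebra R' C] [Algebra.FinitePresentation R' C] [Algebra R C]
    [IsScalarTower R R' C] (g : A →ₐ[R] C) (h : C →ₐ[R'] Λ')
    (_ : ∀ a, h (g a) = algebraMap Λ Λ' (φ a))
    (_ : ∀ (𝔭 : Ideal Λ') [𝔭.IsPrime], (singularIdeal R' C).map h ≤ 𝔭 →
      𝔞 ≤ 𝔭.comap (algebraMap Λ Λ'))
    (_ : ¬ (singularIdeal R' C).map h ≤ 𝔮.map (algebraMap Λ Λ')),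
    Res R φ 𝔞 𝔮

theorem main_zero : Main.{u} 0 := by
  intro R Λ A _ _ _ _ _ _ _ φ 𝔞 𝔮 _ π hπq hR hΛ hstd R' Λ' C _ _ _ _ _ _ _ _ hR's hR'k hΛ's hΛ'k
    _ _ _ _ _ g h hgh hres1 hres2
  have hRbij : Function.Bijective (algebraMap R R') := by
    refine ⟨?_, hR's⟩
    rw [RingHom.injective_iff_ker_eq_bot, hR'k]
    simp
  have hΛbij : Function.Bijective (algebraMap Λ Λ') := by
    refine ⟨?_, hΛ's⟩
    rw [RingHom.injective_iff_ker_eq_bot, hΛ'k]
    simp
  let ε : Λ ≃ₐ[Λ] Λ' := AlgEquiv.ofBijective (Algebra.ofId Λ Λ') hΛbij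
  have hε : ∀ l, ε l = algebraMap Λ Λ' l := fun _ => rfl
  have hfpR : Algebra.FinitePresentation R R' :=
    Algebra.FinitePresentation.equiv (AlgEquiv.ofBijective (Algebra.ofId R R') hRbij)
  have hfp : Algebra.FinitePresentation R C := Algebra.FinitePresentation.trans R R' C
  let h' : C →ₐ[R] Λ := ((ε.symm.restrictScalars R : Λ' ≃ₐ[R] Λ) : Λ' →ₐ[R] Λ).comp
    (h.restrictScalars R)
  have hh' : ∀ c, algebraMap Λ Λ' (h' c) = h c := fun c => by
    rw [← hε]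
    change ε (ε.symm (h c)) = h c
    rw [AlgEquiv.apply_symm_apply]
  refine ⟨C, inferInstance, inferInstance, hfp, g, h', ?_, ?_, ?_⟩
  · ext a
    apply hΛbij.1
    rw [AlgHom.comp_apply, hh', hgh]
  · intro 𝔭 hp hle
    rw [singularIdeal_eq_of_base (R := R) (R' := R') hRbij] at hle
    obtain ⟨hp1, hp2⟩ := prime_map_of_ker_le hΛ's 𝔭 (by
      rw [(RingHom.injective_iff_ker_eq_bot _).mp hΛbij.1]; exact bot_le)
    rw [← hp2]
    apply hres1
    rw [Ideal.map_le_iff_le_comap]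
    intro c hc
    rw [Ideal.mem_comap, ← hh']
    exact Ideal.mem_map_of_mem _ (hle (Ideal.mem_map_of_mem _ hc))
  · intro hle
    rw [singularIdeal_eq_of_base (R := R) (R' := R') hRbij] at hle
    apply hres2
    rw [Ideal.map_le_iff_le_comap]
    intro c hc
    rw [Ideal.mem_comap, ← hh']
    exact Ideal.mem_map_of_mem _ (hle (Ideal.mem_map_of_mem _ hc))

theorem map_mem_span_image_iff {R R₁ : Type*} [CommRing R] [CommRing R₁] (f : R →+* R₁)
    (hf : Function.Surjective f) (S : Set R) (x : R) :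
    f x ∈ Ideal.span (f '' S) ↔ x ∈ Ideal.span S ⊔ RingHom.ker f := by
  rw [← Ideal.map_span, ← Ideal.mem_comap, Ideal.comap_map_of_surjective' f hf]

theorem image_lt_succ {R : Type*} {r : ℕ} (u : Fin (r + 1) → R) (i : Fin r) :
    u '' {j | j < i.succ} = (fun j : Fin r => u j.succ) '' {j | j < i} ∪ {u 0} := by
  ext x
  constructor
  · rintro ⟨j, hj, rfl⟩
    refine Fin.cases (fun _ => Or.inr rfl) (fun j' hj' => Or.inl ⟨j', ?_, rfl⟩) j hj
    simpa using hj'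
  · rintro (⟨j, hj, rfl⟩ | rfl)
    · exact ⟨j.succ, by simpa using hj, rfl⟩
    · exact ⟨0, by simp, rfl⟩

theorem range_succ' {R : Type*} {r : ℕ} (u : Fin (r + 1) → R) :
    Set.range u = Set.range (fun j : Fin r => u j.succ) ∪ {u 0} := by
  ext x
  constructor
  · rintro ⟨j, rfl⟩
    refine Fin.cases (Or.inr rfl) (fun j' => Or.inl ⟨j', rfl⟩) j
  · rintro (⟨j, rfl⟩ | rfl)
    · exact ⟨j.succ, rfl⟩
    · exact ⟨0, rfl⟩

/-- Transfer of the annihilator conditions modulo the first element. -/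
theorem transfer_cond {R R₁ : Type*} [CommRing R] [CommRing R₁] {r : ℕ} (π : Fin (r + 1) → R)
    (h : ∀ i : Fin (r + 1), ∀ x : R,
      π i ^ 2 * x ∈ Ideal.span ((fun j => π j ^ 8) '' {j | j < i}) →
      π i * x ∈ Ideal.span ((fun j => π j ^ 8) '' {j | j < i}))
    (f : R →+* R₁) (hf : Function.Surjective f) (hk : RingHom.ker f = Ideal.span {π 0 ^ 8})
    (i : Fin r) (x : R₁)
    (hx : f (π i.succ) ^ 2 * x ∈ Ideal.span ((fun j : Fin r => f (π j.succ) ^ 8) '' {j | j < i})) :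
    f (π i.succ) * x ∈ Ideal.span ((fun j : Fin r => f (π j.succ) ^ 8) '' {j | j < i}) := by
  obtain ⟨y, rfl⟩ := hf x
  have h1 : (fun j : Fin r => f (π j.succ) ^ 8) '' {j | j < i} =
      f '' ((fun j : Fin r => π j.succ ^ 8) '' {j | j < i}) := by
    rw [← Set.image_comp]
    refine Set.image_congr fun j _ => ?_
    simp
  have h2 : Ideal.span ((fun j : Fin r => π j.succ ^ 8) '' {j | j < i}) ⊔ RingHom.ker f =
      Ideal.span ((fun j => π j ^ 8) '' {j | j < i.succ}) := by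
    rw [hk, image_lt_succ (fun j => π j ^ 8) i, Ideal.span_union]
  rw [h1, ← map_pow, ← map_mul, map_mem_span_image_iff f hf, h2] at hx
  rw [h1, ← map_mul, map_mem_span_image_iff f hf, h2]
  exact h _ _ hx

theorem transfer_ker {R R₁ R' : Type*} [CommRing R] [CommRing R₁] [CommRing R'] {r : ℕ}
    (π : Fin (r + 1) → R) (f : R →+* R₁) (hf : Function.Surjective f)
    (hk : RingHom.ker f = Ideal.span {π 0 ^ 8}) (f' : R₁ →+* R')
    (hk' : RingHom.ker (f'.comp f) = Ideal.span (Set.range fun i => π i ^ 8)) :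
    RingHom.ker f' = Ideal.span (Set.range fun i : Fin r => f (π i.succ) ^ 8) := by
  ext x
  obtain ⟨y, rfl⟩ := hf x
  have h1 : Set.range (fun i : Fin r => f (π i.succ) ^ 8) =
      f '' (Set.range fun i : Fin r => π i.succ ^ 8) := by
    rw [← Set.range_comp]
    congr 1
    ext j
    simp
  rw [h1, map_mem_span_image_iff f hf, hk, ← Ideal.span_union, ← range_succ' (fun j => π j ^ 8),
    ← hk']
  rfl

theorem step {r : ℕ} (ih : Main.{u} r) {R Λ A : Type u} [CommRing R] [IsNoetherianRing R]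
    [CommRing Λ] [Algebra R Λ] [CommRing A] [Algebra R A] [Algebra.FinitePresentation R A]
    (φ : A →ₐ[R] Λ) (𝔞 𝔮 : Ideal Λ) [𝔮.IsPrime] (π : Fin (r + 1) → R)
    (hπq : ∀ i, algebraMap R Λ (π i) ∈ 𝔮)
    (hR : ∀ i : Fin (r + 1), ∀ x : R,
      π i ^ 2 * x ∈ Ideal.span ((fun j => π j ^ 8) '' {j | j < i}) →
      π i * x ∈ Ideal.span ((fun j => π j ^ 8) '' {j | j < i}))
    (hΛ : ∀ i : Fin (r + 1), ∀ x : Λ, algebraMap R Λ (π i) ^ 2 * x ∈
        Ideal.span ((fun j => algebraMap R Λ (π j) ^ 8) '' {j | j < i}) →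
      algebraMap R Λ (π i) * x ∈ Ideal.span ((fun j => algebraMap R Λ (π j) ^ 8) '' {j | j < i}))
    (hstd : ∀ i, IsStrictlyStandard R A (algebraMap R A (π i)))
    {R₁ Λ₁ : Type u} [CommRing R₁] [CommRing Λ₁] [Algebra R R₁] [Algebra Λ Λ₁] [Algebra R Λ₁]
    [IsScalarTower R Λ Λ₁] [Algebra R₁ Λ₁] [IsScalarTower R R₁ Λ₁]
    (hR₁s : Function.Surjective (algebraMap R R₁))
    (hR₁k : RingHom.ker (algebraMap R R₁) = Ideal.span {π 0 ^ 8})
    (hΛ₁s : Function.Surjective (algebraMap Λ Λ₁))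
    (hΛ₁k : RingHom.ker (algebraMap Λ Λ₁) = Ideal.span {algebraMap R Λ (π 0 ^ 8)})
    {R' Λ' C : Type u} [CommRing R'] [Algebra R R'] [CommRing Λ'] [Algebra Λ Λ'] [Algebra R Λ']
    [IsScalarTower R Λ Λ'] [Algebra R' Λ'] [IsScalarTower R R' Λ']
    (hR's : Function.Surjective (algebraMap R R'))
    (hR'k : RingHom.ker (algebraMap R R') = Ideal.span (Set.range fun i => π i ^ 8))
    (hΛ's : Function.Surjective (algebraMap Λ Λ'))
    (hΛ'k : RingHom.ker (algebraMap Λ Λ') =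
      Ideal.span (Set.range fun i => algebraMap R Λ (π i) ^ 8))
    [CommRing C] [Algebra R' C] [Algebra.FinitePresentation R' C] [Algebra R C]
    [IsScalarTower R R' C] (g : A →ₐ[R] C) (h : C →ₐ[R'] Λ')
    (hgh : ∀ a, h (g a) = algebraMap Λ Λ' (φ a))
    (hres1 : ∀ (𝔭 : Ideal Λ') [𝔭.IsPrime], (singularIdeal R' C).map h ≤ 𝔭 →
      𝔞 ≤ 𝔭.comap (algebraMap Λ Λ'))
    (hres2 : ¬ (singularIdeal R' C).map h ≤ 𝔮.map (algebraMap Λ Λ'))
    [Algebra R₁ R'] [IsScalarTower R R₁ R'] [Algebra Λ₁ Λ'] [IsScalarTower Λ Λ₁ Λ']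
    [Algebra R₁ Λ'] [IsScalarTower R₁ R' Λ'] [IsScalarTower R₁ Λ₁ Λ']
    [Algebra R₁ C] [IsScalarTower R₁ R' C] [IsScalarTower R R₁ C] :
    Res R φ 𝔞 𝔮 := by
  have hR₁N : IsNoetherianRing R₁ := isNoetherianRing_of_surjective R R₁ (algebraMap R R₁) hR₁s
  have hkerle : RingHom.ker (algebraMap Λ Λ₁) ≤ 𝔮 := by
    rw [hΛ₁k, Ideal.span_singleton_le_iff_mem, map_pow]
    exact Ideal.pow_mem_of_mem _ (hπq 0) _ (by norm_num)
  obtain ⟨h𝔮₁, h𝔮₁c⟩ := prime_map_of_ker_le hΛ₁s 𝔮 hkerle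
  let π₁ : Fin r → R₁ := fun i => algebraMap R R₁ (π i.succ)
  have hRΛ : ∀ x : R, algebraMap R₁ Λ₁ (algebraMap R R₁ x) = algebraMap Λ Λ₁ (algebraMap R Λ x) :=
    fun x => by
      rw [← IsScalarTower.algebraMap_apply R R₁ Λ₁, ← IsScalarTower.algebraMap_apply R Λ Λ₁]
  let g₁ : R₁ ⊗[R] A →ₐ[R₁] C := Algebra.TensorProduct.lift (Algebra.ofId R₁ C) g
    (fun _ _ => Commute.all _ _)
  have key : Res R₁ (bc R₁ Λ₁ φ) (𝔞.map (algebraMap Λ Λ₁)) (𝔮.map (algebraMap Λ Λ₁)) := by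
    refine ih R₁ Λ₁ (R₁ ⊗[R] A) (bc R₁ Λ₁ φ) (𝔞.map (algebraMap Λ Λ₁))
      (𝔮.map (algebraMap Λ Λ₁)) π₁ ?_ ?_ ?_ ?_ R' Λ' C ?_ ?_ ?_ ?_ g₁ h ?_ ?_ ?_
    · intro i
      rw [hRΛ]
      exact Ideal.mem_map_of_mem _ (hπq _)
    · exact fun i x hx => transfer_cond π hR (algebraMap R R₁) hR₁s hR₁k i x hx
    · intro i x hx
      simp only [π₁, hRΛ] at hx ⊢
      refine transfer_cond (fun j => algebraMap R Λ (π j)) hΛ (algebraMap Λ Λ₁) hΛ₁s ?_ i x hx
      rw [hΛ₁k, map_pow]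
    · intro i
      have h1 := StdBaseChange.isStrictlyStandard_baseChange (R := R) (A := A) R₁ _ (hstd i.succ)
      have h2 : algebraMap R₁ (R₁ ⊗[R] A) (π₁ i) = (1 : R₁) ⊗ₜ[R] algebraMap R A (π i.succ) := by
        change (algebraMap R R₁ (π i.succ)) ⊗ₜ[R] (1 : A) = _
        rw [Algebra.algebraMap_eq_smul_one, Algebra.algebraMap_eq_smul_one,
          TensorProduct.smul_tmul]
      rw [h2]
      exact h1
    · intro y
      obtain ⟨x, rfl⟩ := hR's y
      exact ⟨algebraMap R R₁ x, by rw [← IsScalarTower.algebraMap_apply]⟩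
    · refine transfer_ker π (algebraMap R R₁) hR₁s hR₁k (algebraMap R₁ R') ?_
      rw [← IsScalarTower.algebraMap_eq]
      exact hR'k
    · intro y
      obtain ⟨x, rfl⟩ := hΛ's y
      exact ⟨algebraMap Λ Λ₁ x, by rw [← IsScalarTower.algebraMap_apply]⟩
    · simp only [π₁, hRΛ]
      refine transfer_ker (fun j => algebraMap R Λ (π j)) (algebraMap Λ Λ₁) hΛ₁s ?_
        (algebraMap Λ₁ Λ') ?_
      · rw [hΛ₁k, map_pow]
      · rw [← IsScalarTower.algebraMap_eq]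
        exact hΛ'k
    · intro a
      induction a using TensorProduct.induction_on with
      | zero => simp
      | add x y hx hy => simp only [map_add, hx, hy]
      | tmul x a =>
        rw [bc_tmul, map_mul, ← IsScalarTower.algebraMap_apply R₁ Λ₁ Λ',
          ← IsScalarTower.algebraMap_apply Λ Λ₁ Λ', ← hgh]
        change h (Algebra.TensorProduct.lift (Algebra.ofId R₁ C) g
          (fun _ _ => Commute.all _ _) (x ⊗ₜ[R] a)) = _
        rw [Algebra.TensorProduct.lift_tmul, map_mul]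
        congr 1
        change h (algebraMap R₁ C x) = _
        rw [IsScalarTower.algebraMap_apply R₁ R' C, AlgHom.commutes,
          ← IsScalarTower.algebraMap_apply R₁ R' Λ']
    · intro 𝔭 hp hle
      rw [Ideal.map_le_iff_le_comap, Ideal.comap_comap, ← IsScalarTower.algebraMap_eq]
      exact hres1 𝔭 hle
    · rw [Ideal.map_map, ← IsScalarTower.algebraMap_eq]
      exact hres2
  obtain ⟨B₁, _, _, hB₁fp, a₁, b₁, hab₁, hB₁1, hB₁2⟩ := key
  let _ : Algebra R B₁ := ((algebraMap R₁ B₁).comp (algebraMap R R₁)).toAlgebra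
  have ht : IsScalarTower R R₁ B₁ := IsScalarTower.of_algebraMap_eq fun _ => rfl
  let g₂ : A →ₐ[R] B₁ := (a₁.restrictScalars R).comp Algebra.TensorProduct.includeRight
  have hg₂ : ∀ a, g₂ a = a₁ ((1 : R₁) ⊗ₜ[R] a) := fun _ => rfl
  obtain ⟨B, _, _, hBfp, α, β, hαβ, hπB, hB⟩ := ResolveMod.exists_factor (R := R) (A := A) (Λ := Λ)
    (π 0) (fun x hx => by
      have h1 := hR 0 x
      simp only [Fin.not_lt_zero, Set.ofPred_false, Set.image_empty, Ideal.span_empty,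
        Ideal.mem_bot] at h1
      exact h1 hx) (fun x hx => by
      have h1 := hΛ 0 x
      simp only [Fin.not_lt_zero, Set.ofPred_false, Set.image_empty, Ideal.span_empty,
        Ideal.mem_bot] at h1
      rw [Algebra.smul_def] at hx ⊢
      exact h1 (by rw [← map_pow]; exact hx)) φ (hstd 0)
    (R' := R₁) (Λ' := Λ₁) hR₁s hR₁k hΛ₁s hΛ₁k g₂ b₁ (fun a => by
      rw [hg₂]
      change (b₁.comp a₁) _ = _
      rw [hab₁, bc_tmul, map_one, one_mul])
  refine ⟨B, inferInstance, inferInstance, hBfp, α, β, hαβ, ?_, ?_⟩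
  · intro 𝔭 hp hle
    have hπ𝔭 : algebraMap R Λ (π 0) ∈ 𝔭 := by
      rw [← AlgHom.commutes β]
      exact hle (Ideal.mem_map_of_mem _ hπB)
    have hk𝔭 : RingHom.ker (algebraMap Λ Λ₁) ≤ 𝔭 := by
      rw [hΛ₁k, Ideal.span_singleton_le_iff_mem, map_pow]
      exact Ideal.pow_mem_of_mem _ hπ𝔭 _ (by norm_num)
    obtain ⟨h𝔭₁, h𝔭₁c⟩ := prime_map_of_ker_le hΛ₁s 𝔭 hk𝔭
    have h1 := hB (𝔭.map (algebraMap Λ Λ₁)) (by rw [h𝔭₁c]; exact hle)
    have h2 := hB₁1 _ h1
    rw [Ideal.map_le_iff_le_comap, h𝔭₁c] at h2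
    exact h2
  · intro hle
    exact hB₁2 (hB (𝔮.map (algebraMap Λ Λ₁)) (by rw [h𝔮₁c]; exact hle))

theorem main (r : ℕ) : Main.{u} r := by
  induction r with
  | zero => exact main_zero
  | succ r ih =>
    intro R Λ A _ _ _ _ _ _ _ φ 𝔞 𝔮 _ π hπq hR hΛ hstd R' Λ' C _ _ _ _ _ _ _ _ hR's hR'k hΛ's hΛ'k
      _ _ _ _ _ g h hgh hres1 hres2
    let I : Ideal R := Ideal.span {π 0 ^ 8}
    let J : Ideal Λ := Ideal.span {algebraMap R Λ (π 0 ^ 8)}
    let R₁ := R ⧸ I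
    let Λ₁ := Λ ⧸ J
    have hI : I ≤ RingHom.ker (algebraMap R R') := by
      rw [hR'k]
      refine Ideal.span_mono ?_
      rintro _ rfl
      exact ⟨0, rfl⟩
    have hJ : J ≤ RingHom.ker (algebraMap Λ Λ') := by
      rw [hΛ'k]
      refine Ideal.span_mono ?_
      rintro _ rfl
      exact ⟨0, by simp⟩
    let f₁ : R₁ →+* Λ₁ := Ideal.Quotient.lift I (algebraMap R Λ₁) (fun x hx => by
      have h1 : algebraMap R Λ x ∈ J := by
        have := Ideal.mem_map_of_mem (algebraMap R Λ) hx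
        rwa [Ideal.map_span, Set.image_singleton] at this
      rw [IsScalarTower.algebraMap_apply R Λ Λ₁]
      exact Ideal.Quotient.eq_zero_iff_mem.mpr h1)
    let f₂ : R₁ →+* R' := Ideal.Quotient.lift I (algebraMap R R') (fun x hx => hI hx)
    let f₃ : Λ₁ →+* Λ' := Ideal.Quotient.lift J (algebraMap Λ Λ') (fun x hx => hJ hx)
    let _ : Algebra R₁ Λ₁ := f₁.toAlgebra
    let _ : Algebra R₁ R' := f₂.toAlgebra
    let _ : Algebra Λ₁ Λ' := f₃.toAlgebra
    let _ : Algebra R₁ Λ' := ((algebraMap R' Λ').comp f₂).toAlgebra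
    let _ : Algebra R₁ C := ((algebraMap R' C).comp f₂).toAlgebra
    have t1 : IsScalarTower R R₁ Λ₁ := IsScalarTower.of_algebraMap_eq fun _ => rfl
    have t2 : IsScalarTower R R₁ R' := IsScalarTower.of_algebraMap_eq fun _ => rfl
    have t3 : IsScalarTower Λ Λ₁ Λ' := IsScalarTower.of_algebraMap_eq fun _ => rfl
    have t4 : IsScalarTower R₁ R' Λ' := IsScalarTower.of_algebraMap_eq fun _ => rfl
    have t5 : IsScalarTower R₁ R' C := IsScalarTower.of_algebraMap_eq fun _ => rfl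
    have t6 : IsScalarTower R₁ Λ₁ Λ' := IsScalarTower.of_algebraMap_eq fun x => by
      obtain ⟨y, rfl⟩ := Ideal.Quotient.mk_surjective x
      change algebraMap R' Λ' (algebraMap R R' y) = algebraMap Λ Λ' (algebraMap R Λ y)
      rw [← IsScalarTower.algebraMap_apply, ← IsScalarTower.algebraMap_apply]
    have t7 : IsScalarTower R R₁ C := IsScalarTower.of_algebraMap_eq fun x => by
      rw [IsScalarTower.algebraMap_apply R R' C]
      rfl
    exact step ih φ 𝔞 𝔮 π hπq hR hΛ hstd (R₁ := R₁) (Λ₁ := Λ₁) Ideal.Quotient.mk_surjective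
      (Ideal.mk_ker) Ideal.Quotient.mk_surjective (Ideal.mk_ker) hR's hR'k hΛ's hΛ'k g h hgh
      hres1 hres2

/-- The range over a subtype as an image. -/
theorem span_range_subtype {R : Type*} [CommRing R] {r : ℕ} (u : Fin r → R) (i : Fin r) :
    Ideal.span (Set.range fun j : {j : Fin r // (j : ℕ) < (i : ℕ)} => u j) =
      Ideal.span (u '' {j | j < i}) := by
  congr 1
  ext x
  constructor
  · rintro ⟨j, rfl⟩
    exact ⟨j, j.2, rfl⟩
  · rintro ⟨j, hj, rfl⟩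
    exact ⟨⟨j, hj⟩, rfl⟩

/-- Stacks Tag 07F8. -/
theorem resolvable_of_quotient {R Λ A : Type u} [CommRing R] [IsNoetherianRing R] [CommRing Λ]
    [Algebra R Λ] [CommRing A] [Algebra R A] [Algebra.FinitePresentation R A] (φ : A →ₐ[R] Λ)
    (𝔮 : Ideal Λ) [𝔮.IsPrime] (r : ℕ) (π : Fin r → R) (hπq : ∀ i, algebraMap R Λ (π i) ∈ 𝔮)
    (hR : ∀ i : Fin r, ∀ x : R ⧸ Ideal.span
        (Set.range fun j : {j : Fin r // (j : ℕ) < (i : ℕ)} => π j ^ 8),
      Ideal.Quotient.mk _ (π i) ^ 2 * x = 0 → Ideal.Quotient.mk _ (π i) * x = 0)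
    (hΛ : ∀ i : Fin r, ∀ x : Λ ⧸ Ideal.span
        (Set.range fun j : {j : Fin r // (j : ℕ) < (i : ℕ)} => algebraMap R Λ (π j) ^ 8),
      Ideal.Quotient.mk _ (algebraMap R Λ (π i)) ^ 2 * x = 0 →
        Ideal.Quotient.mk _ (algebraMap R Λ (π i)) * x = 0)
    (hstd : ∀ i, Smoothing.IsStrictlyStandard R A (algebraMap R A (π i)))
    {R' Λ' : Type u} [CommRing R'] [Algebra R R'] [CommRing Λ'] [Algebra Λ Λ'] [Algebra R Λ']
    [IsScalarTower R Λ Λ'] [Algebra R' Λ'] [IsScalarTower R R' Λ']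
    (hR's : Function.Surjective (algebraMap R R'))
    (hR'k : RingHom.ker (algebraMap R R') = Ideal.span (Set.range fun i => π i ^ 8))
    (hΛ's : Function.Surjective (algebraMap Λ Λ'))
    (hΛ'k : RingHom.ker (algebraMap Λ Λ') =
      (Ideal.span (Set.range fun i => π i ^ 8)).map (algebraMap R Λ))
    (hres : Smoothing.Resolvable R' (bc R' Λ' φ) (𝔮.map (algebraMap Λ Λ'))) :
    Smoothing.Resolvable R φ 𝔮 := by
  obtain ⟨C, _, _, hCfp, g, h, hgh, hle, hnle⟩ := hres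
  let _ : Algebra R C := ((algebraMap R' C).comp (algebraMap R R')).toAlgebra
  have ht : IsScalarTower R R' C := IsScalarTower.of_algebraMap_eq fun _ => rfl
  have hΛ'k' : RingHom.ker (algebraMap Λ Λ') =
      Ideal.span (Set.range fun i => algebraMap R Λ (π i) ^ 8) := by
    rw [hΛ'k, Ideal.map_span, ← Set.range_comp]
    congr 2
    ext i
    simp
  have hk𝔮 : RingHom.ker (algebraMap Λ Λ') ≤ 𝔮 := by
    rw [hΛ'k', Ideal.span_le]
    rintro _ ⟨i, rfl⟩
    exact Ideal.pow_mem_of_mem _ (hπq i) _ (by norm_num)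
  obtain ⟨h𝔮', _⟩ := prime_map_of_ker_le hΛ's 𝔮 hk𝔮
  let g₀ : A →ₐ[R] C := (g.restrictScalars R).comp Algebra.TensorProduct.includeRight
  have hg₀ : ∀ a, h (g₀ a) = algebraMap Λ Λ' (φ a) := fun a => by
    change (h.comp g) ((1 : R') ⊗ₜ[R] a) = _
    rw [hgh, bc_tmul, map_one, one_mul]
  have hcond : ∀ {S : Type u} [CommRing S] (ρ : Fin r → S),
      (∀ i : Fin r, ∀ x : S ⧸ Ideal.span
        (Set.range fun j : {j : Fin r // (j : ℕ) < (i : ℕ)} => ρ j ^ 8),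
        Ideal.Quotient.mk _ (ρ i) ^ 2 * x = 0 → Ideal.Quotient.mk _ (ρ i) * x = 0) →
      ∀ i : Fin r, ∀ x : S, ρ i ^ 2 * x ∈ Ideal.span ((fun j => ρ j ^ 8) '' {j | j < i}) →
        ρ i * x ∈ Ideal.span ((fun j => ρ j ^ 8) '' {j | j < i}) := by
    intro S _ ρ h i x hx
    rw [← span_range_subtype (fun j => ρ j ^ 8) i, ← Ideal.Quotient.eq_zero_iff_mem] at hx ⊢
    rw [map_mul, map_pow] at hx
    rw [map_mul]
    exact h i _ hx
  obtain ⟨B, _, _, hBfp, α, β, hαβ, hB1, hB2⟩ := main r R Λ A φ (singRad R φ) 𝔮 π hπq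
    (hcond π hR) (hcond (fun i => algebraMap R Λ (π i)) hΛ) hstd R' Λ' C hR's hR'k hΛ's hΛ'k' g₀ h
    hg₀ (fun 𝔭 hp hle' => by
      have h1 : singRad R' h ≤ 𝔭 := hp.radical_le_iff.mpr hle'
      have h2 : singRad R' (bc R' Λ' φ) ≤ 𝔭 := hle.trans h1
      have h3 : (singularIdeal R' (R' ⊗[R] A)).map (bc R' Λ' φ) ≤ 𝔭 :=
        Ideal.le_radical.trans h2
      have h4 : (singularIdeal R A).map φ ≤ 𝔭.comap (algebraMap Λ Λ') := by
        rw [Ideal.map_le_iff_le_comap]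
        intro a ha
        change algebraMap Λ Λ' (φ a) ∈ 𝔭
        have h5 := h3 (Ideal.mem_map_of_mem (bc R' Λ' φ) (SingIdeal.one_tmul_mem (R' := R') ha))
        rwa [bc_tmul, map_one, one_mul] at h5
      exact (Ideal.IsPrime.radical_le_iff inferInstance).mpr h4)
    (fun hle' => hnle (h𝔮'.radical_le_iff.mpr hle'))
  refine ⟨B, inferInstance, inferInstance, hBfp, α, β, hαβ, ?_, ?_⟩
  · intro x hx
    rw [singRad, Ideal.radical_eq_sInf, Ideal.mem_sInf]
    rintro 𝔭 ⟨h𝔭, hp⟩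
    exact hB1 𝔭 h𝔭 hx
  · intro h1
    exact hB2 (Ideal.le_radical.trans h1)

end Groth.Agent.Smoothlim.ResolvePi
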