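import Groth.Agent.Fdesc.LocGen

/-!
# Modules which are locally generated by finitely many sections form an essentially small class

`LFG M`: every point has an open neighbourhood `U` and finitely many sections `e i` of `M` on `U`
such that every section of `M` over `V ≤ U` is locally a linear combination of the `e i`.
-/

set_option autoImplicit false
universe u v w

open CategoryTheory CategoryTheory.Limits AlgebraicGeometry Opposite TopologicalSpace
open Groth.Agent.Fdesc Groth.Agent.Fdesc.LocGen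

namespace Groth.Agent.Smoothlim.SmallFP

variable {X : Scheme.{u}}

/-- locally finitely generated (elementary form) -/
def LFG (M : X.Modules) : Prop :=
  ∀ x : X, ∃ (U : X.Opens) (n : ℕ) (e : Fin n → Γ(M, U)), x ∈ U ∧
    ∀ (V : X.Opens) (_ : V ≤ U) (s : Γ(M, V)) (y : X), y ∈ V →
      ∃ (W : X.Opens) (hW : W ≤ V) (hWU : W ≤ U) (a : Fin n → Γ(X, W)), y ∈ W ∧
        res M hW s = ∑ i, a i • res M hWU (e i)

/-- the type of codes of sections -/
def T (X : Scheme.{u}) : Type u := X → (Σ W : X.Opens, ℕ → Γ(X, W))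

/-- Sections of locally finitely generated modules inject into `T X`. -/
lemma exists_injective {M : X.Modules} (h : LFG M) (V : X.Opens) :
    ∃ i : Γ(M, V) → T X, Function.Injective i := by
  classical
  choose U n e hxU he using h
  -- code of a section at a point
  have key : ∀ (s : Γ(M, V)) (x : X), ∃ c : (Σ W : X.Opens, ℕ → Γ(X, W)), x ∈ V →
      x ∈ c.1 ∧ ∃ (hV : c.1 ≤ V) (hU : c.1 ≤ U x),
        res M hV s = ∑ i : Fin (n x), c.2 i • res M hU (e x i) := by
    intro s x
    by_cases hx : x ∈ V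
    · obtain ⟨W, hW, hWU, a, hxW, ha⟩ := he x (V ⊓ U x) inf_le_right
        (res M inf_le_left s) x ⟨hx, hxU x⟩
      refine ⟨⟨W, fun k => if hk : k < n x then a ⟨k, hk⟩ else 0⟩, fun _ => ⟨hxW,
        hW.trans inf_le_left, hWU, ?_⟩⟩
      simp only [Fin.is_lt, dite_true, Fin.eta]
      rw [← ha, res_res]
    · exact ⟨⟨⊥, fun _ => 0⟩, fun h => absurd h hx⟩
  choose c hc using key
  refine ⟨fun s x => c s x, fun s s' hss => ?_⟩
  have hss' : ∀ x, c s x = c s' x := fun x => congr_fun hss x
  refine res_ext M (fun x : V => (c s x.1).1) (fun x => (hc s x.1 x.2).2.choose)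
    (fun x hx => Opens.mem_iSup.mpr ⟨⟨x, hx⟩, (hc s x hx).1⟩) fun x => ?_
  obtain ⟨h1, h2, h3, h4⟩ := hc s x.1 x.2
  obtain ⟨h1', h2', h3', h4'⟩ := hc s' x.1 x.2
  have : ∀ (d : (Σ W : X.Opens, ℕ → Γ(X, W))) (hd : d = c s x.1) (k : d.1 ≤ V) (k' : d.1 ≤ U x.1),
      res M k s' = ∑ i : Fin (n x.1), d.2 i • res M k' (e x.1 i) := by
    intro d hd k k'
    rw [hss'] at hd
    subst hd
    exact h4'
  rw [this _ rfl h2 h3]
  exact h4

/-- all the structure of a module, transported to subsets of a fixed type -/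
structure Code (X : Scheme.{u}) (T : Type u) : Type u where
  c1 : ∀ _ : X.Opens, Set T
  c2 : ∀ _ : X.Opens, Set (T × T × T)
  c3 : ∀ V : X.Opens, Set (Γ(X, V) × T × T)
  c4 : ∀ (_ _ : X.Opens), Set (T × T)

/-- the code of a module -/
def code {T : Type u} (M : X.Modules) (i : ∀ V : X.Opens, Γ(M, V) → T) : Code X T where
  c1 V := Set.range (i V)
  c2 V := {p | ∃ a b : Γ(M, V), p = (i V a, i V b, i V (a + b))}
  c3 V := {p | ∃ (r : Γ(X, V)) (a : Γ(M, V)), p = (r, i V a, i V (r • a))}
  c4 V W := {p | ∃ (h : W ≤ V) (a : Γ(M, V)), p = (i V a, i W (res M h a))}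

lemma nonempty_iso {T : Type u} {M M' : X.Modules} (i : ∀ V : X.Opens, Γ(M, V) → T)
    (i' : ∀ V : X.Opens, Γ(M', V) → T) (hi : ∀ V, Function.Injective (i V))
    (hi' : ∀ V, Function.Injective (i' V)) (h : code M i = code M' i') : Nonempty (M ≅ M') := by
  have h1 : ∀ V, Set.range (i V) = Set.range (i' V) := fun V => congr_fun congr(($h).c1) V
  have hex : ∀ (V : X.Opens) (a : Γ(M, V)), ∃ a' : Γ(M', V), i' V a' = i V a := by
    intro V a
    have : i V a ∈ Set.range (i' V) := by rw [← h1]; exact ⟨a, rfl⟩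
    exact this
  choose e he using hex
  have hadd : ∀ (V : X.Opens) (a b : Γ(M, V)), e V (a + b) = e V a + e V b := by
    intro V a b
    have h2 : (i V a, i V b, i V (a + b)) ∈ (code M i).c2 V := ⟨a, b, rfl⟩
    rw [h] at h2
    obtain ⟨a', b', hab⟩ := h2
    simp only [Prod.mk.injEq] at hab
    obtain ⟨ha, hb, hc⟩ := hab
    rw [← he] at ha hb hc
    rw [hi' V ha, hi' V hb, hi' V hc]
  have hsmul : ∀ (V : X.Opens) (r : Γ(X, V)) (a : Γ(M, V)), e V (r • a) = r • e V a := by
    intro V r a
    have h2 : (r, i V a, i V (r • a)) ∈ (code M i).c3 V := ⟨r, a, rfl⟩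
    rw [h] at h2
    obtain ⟨r', a', hab⟩ := h2
    simp only [Prod.mk.injEq] at hab
    obtain ⟨rfl, hb, hc⟩ := hab
    rw [← he] at hb hc
    rw [hi' V hb, hi' V hc]
  have hres : ∀ (V W : X.Opens) (hW : W ≤ V) (a : Γ(M, V)), e W (res M hW a) = res M' hW (e V a) := by
    intro V W hW a
    have h2 : (i V a, i W (res M hW a)) ∈ (code M i).c4 V W := ⟨hW, a, rfl⟩
    rw [h] at h2
    obtain ⟨_, a', hab⟩ := h2
    simp only [Prod.mk.injEq] at hab
    obtain ⟨hb, hc⟩ := hab
    rw [← he] at hb hc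
    rw [hi' V hb, hi' W hc]
  let φ : M ⟶ M' := mkHom (fun V => AddMonoidHom.mk' (e V) (hadd V)) hsmul hres
  have : IsIso φ := by
    rw [Scheme.Modules.Hom.isIso_iff_isIso_app]
    intro V
    rw [ConcreteCategory.isIso_iff_bijective]
    constructor
    · intro a b hab
      have hab' : e V a = e V b := hab
      apply hi V
      rw [← he, ← he, hab']
    · intro b
      have : i' V b ∈ Set.range (i V) := by rw [h1]; exact ⟨b, rfl⟩
      obtain ⟨a, ha⟩ := this
      refine ⟨a, ?_⟩
      change e V a = b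
      apply hi' V
      rw [he, ha]
  exact ⟨asIso φ⟩

/-- A class of locally finitely generated modules has a small set of representatives. -/
theorem exists_small (P : X.Modules → Prop) (hP : ∀ M, P M → LFG M) :
    ∃ (J : Type u) (obj : J → X.Modules), (∀ j, P (obj j)) ∧
      ∀ M, P M → ∃ j, Nonempty (obj j ≅ M) := by
  let J : Type u := {c : Code X (T X) // ∃ (M : X.Modules) (i : ∀ V : X.Opens, Γ(M, V) → T X),
    P M ∧ (∀ V, Function.Injective (i V)) ∧ code M i = c}
  refine ⟨J, fun j => j.2.choose, fun j => j.2.choose_spec.choose_spec.1, fun M hM => ?_⟩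
  choose i hi using exists_injective (hP M hM)
  let j : J := ⟨code M i, M, i, hM, hi, rfl⟩
  refine ⟨j, ?_⟩
  have h := j.2.choose_spec.choose_spec
  exact nonempty_iso _ i h.2.1 hi h.2.2

end Groth.Agent.Smoothlim.SmallFP
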